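import Groth.Agent.Fga.DVRGeom
import Groth.Agent.Ega1.GenPts
import Groth.Agent.VarietyA.RegSmoothSch
import Groth.Agent.S0558
import Mathlib.AlgebraicGeometry.Morphisms.UniversallyOpen
import Mathlib.AlgebraicGeometry.PullbackCarrier

/-!
# Smooth schemes over a discrete valuation ring with irreducible special fibre
-/

set_option autoImplicit false
set_option linter.unusedSectionVars false

universe u

open CategoryTheory CategoryTheory.Limits AlgebraicGeometry IsLocalRing

namespace Groth.Agent.Pi1.H382.Trait

variable {V : Type u} [CommRing V] [IsDomain V] [IsDiscreteValuationRing V]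
  {Y : Scheme.{u}} (p : Y ⟶ Spec (CommRingCat.of V))

theorem bot_specializes (x : PrimeSpectrum V) : (⊥ : PrimeSpectrum V) ⤳ x := by
  rw [← PrimeSpectrum.le_iff_specializes]
  exact bot_le

theorem bot_ne_closedPoint : (⊥ : PrimeSpectrum V) ≠ closedPoint V := by
  intro h
  have h1 : (⊥ : PrimeSpectrum V).asIdeal = (closedPoint V).asIdeal := by rw [h]
  exact IsDiscreteValuationRing.not_a_field V h1.symm

/-- Every point has a generization in the generic fibre. -/
theorem exists_generic [Flat p] (y : Y) :
    ∃ y' : Y, y' ⤳ y ∧ p y' = (⊥ : PrimeSpectrum V) :=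
  Flat.generalizingMap p (bot_specializes (p y))

/-- A proper generization of a point of dimension at most one lies in the generic fibre. -/
theorem eq_of_specializes [Flat p] {y y' : Y} (h : y' ⤳ y) (hy' : p y' = closedPoint V)
    (hdim : ringKrullDim (Y.presheaf.stalk y) ≤ 1) : y' = y := by
  by_contra hne
  obtain ⟨y'', h1, h2⟩ := exists_generic p y'
  have hne' : y'' ≠ y' := by
    rintro rfl
    exact bot_ne_closedPoint (h2.symm.trans hy')
  have hlt : y < y' := lt_of_le_not_ge (α := Y) (show y ≤ y' from h)
    (fun (h' : y ⤳ y') => hne (h.antisymm h').eq)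
  have hlt' : y' < y'' := lt_of_le_not_ge (α := Y) (show y' ≤ y'' from h1)
    (fun (h' : y' ⤳ y'') => hne' (h1.antisymm h').eq)
  have e1 := Order.coheight_add_one_le hlt
  have e2 := Order.coheight_add_one_le hlt'
  rw [ringKrullDim_stalk_eq_coheight] at hdim
  have h3 : Order.coheight y ≤ 1 := by exact_mod_cast hdim
  have h4 : Order.coheight y'' + 1 + 1 ≤ 1 := (add_le_add_left e2 1).trans (e1.trans h3)
  have h5 : (1 : ℕ∞) + 1 ≤ 1 := le_trans (by gcongr; exact le_add_self) h4
  exact absurd h5 (by decide)

/-- A scheme smooth over a field is integral as soon as it is connected. -/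
theorem isIntegral_of_smooth {k : Type u} [Field k] {P : Scheme.{u}}
    (q : P ⟶ Spec (CommRingCat.of k)) [Smooth q] [ConnectedSpace P] : IsIntegral P := by
  have : IsLocallyNoetherian P := LocallyOfFiniteType.isLocallyNoetherian q
  rw [Groth.Agent.Ega1.GenPts.isIntegral_iff]
  refine ⟨inferInstance, fun x => ?_⟩
  have := Groth.Agent.VarietyA.RegSmoothSch.isRegularLocalRing_stalk_of_mem_smoothLocus q x
    (by rw [q.smoothLocus_eq_top]; trivial)
  exact Groth.Agent.S0558.result _

/-- If some fibre over a field-valued point supported at the closed point is connected, the special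
fibre is irreducible. -/
theorem exists_special_generic [Smooth p] {Ω : Type u} [Field Ω]
    (s : Spec (CommRingCat.of Ω) ⟶ Spec (CommRingCat.of V))
    (hs : s (⊥ : PrimeSpectrum Ω) = closedPoint V) [ConnectedSpace ↥(pullback p s)] :
    ∃ ξ : Y, p ξ = closedPoint V ∧ ∀ y : Y, p y = closedPoint V → ξ ⤳ y := by
  have hint : IsIntegral (pullback p s) := isIntegral_of_smooth (pullback.snd p s)
  have hp : ∀ z : ↥(pullback p s), p (pullback.fst p s z) = closedPoint V := by
    intro z
    rw [← Scheme.Hom.comp_apply, pullback.condition, Scheme.Hom.comp_apply,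
      show pullback.snd p s z = (⊥ : PrimeSpectrum Ω) from Subsingleton.elim (α := PrimeSpectrum Ω) _ _]
    exact hs
  refine ⟨pullback.fst p s (genericPoint _), hp _, fun y hy => ?_⟩
  obtain ⟨z, hz, -⟩ := Scheme.Pullback.exists_preimage_pullback (f := p) (g := s) y
    (⊥ : PrimeSpectrum Ω) (hy.trans hs.symm)
  rw [← hz]
  exact (genericPoint_specializes z).map (pullback.fst p s).continuous

end Groth.Agent.Pi1.H382.Trait
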