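import Groth.Agent.Pi1A.FEtAffine

/-!
# The relation "is a base change of" for finite étale covers
-/

set_option autoImplicit false

universe u

open CategoryTheory CategoryTheory.Limits AlgebraicGeometry

namespace Groth.Agent.Pi1.H382.BC

open Groth.Agent.Pi1A.FEtAffine

/-- `V` is (isomorphic to) the base change of `W` along `g`. -/
def Bc {X Y : Scheme.{u}} (g : X ⟶ Y) (W : FEt.Cat Y) (V : FEt.Cat X) : Prop :=
  Nonempty ((FEt.restrict g).obj W ≅ V)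

variable {X Y Z : Scheme.{u}}

theorem Bc.refl (g : X ⟶ Y) (W : FEt.Cat Y) : Bc g W ((FEt.restrict g).obj W) := ⟨Iso.refl _⟩

theorem Bc.comp {f : X ⟶ Y} {g : Y ⟶ Z} {W : FEt.Cat Z} {V : FEt.Cat Y} {U : FEt.Cat X}
    (h : Bc g W V) (h' : Bc f V U) : Bc (f ≫ g) W U := by
  obtain ⟨e⟩ := h
  obtain ⟨e'⟩ := h'
  exact ⟨(restrictComp f g).app W ≪≫ (FEt.restrict f).mapIso e ≪≫ e'⟩

theorem Bc.comp' {f : X ⟶ Y} {g : Y ⟶ Z} {q : X ⟶ Z} (hq : f ≫ g = q) {W : FEt.Cat Z}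
    {V : FEt.Cat Y} {U : FEt.Cat X} (h : Bc g W V) (h' : Bc f V U) : Bc q W U := by
  subst hq
  exact h.comp h'

/-- Cancellation. -/
theorem Bc.of_comp {f : X ⟶ Y} {g : Y ⟶ Z} {q : X ⟶ Z} (hq : f ≫ g = q) {W : FEt.Cat Z}
    {V : FEt.Cat Y} {U : FEt.Cat X} (h : Bc g W V) (h' : Bc q W U) : Bc f V U := by
  subst hq
  obtain ⟨e⟩ := h
  obtain ⟨e'⟩ := h'
  exact ⟨(FEt.restrict f).mapIso e.symm ≪≫ ((restrictComp f g).app W).symm ≪≫ e'⟩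

theorem Bc.unique {g : X ⟶ Y} {W : FEt.Cat Y} {V V' : FEt.Cat X} (h : Bc g W V) (h' : Bc g W V') :
    Nonempty (V ≅ V') := by
  obtain ⟨e⟩ := h
  obtain ⟨e'⟩ := h'
  exact ⟨e.symm ≪≫ e'⟩

theorem Bc.congr {g g' : X ⟶ Y} (hg : g = g') {W W' : FEt.Cat Y} (hW : Nonempty (W ≅ W'))
    {V V' : FEt.Cat X} (hV : Nonempty (V ≅ V')) (h : Bc g W V) : Bc g' W' V' := by
  subst hg
  obtain ⟨e⟩ := h
  obtain ⟨eW⟩ := hW
  obtain ⟨eV⟩ := hV
  exact ⟨(FEt.restrict g).mapIso eW.symm ≪≫ e ≪≫ eV⟩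

/-- Along an isomorphism every cover is a base change. -/
theorem exists_of_isIso (e : X ⟶ Y) [IsIso e] (V : FEt.Cat X) :
    ∃ W : FEt.Cat Y, Bc e W V ∧ Bc (inv e) V W := by
  refine ⟨(FEt.restrict (inv e)).obj V, ?_, Bc.refl _ _⟩
  exact ⟨((restrictComp e (inv e)).symm ≪≫ restrictCongr (IsIso.hom_inv_id e) ≪≫
      restrictId X).app V⟩

theorem Bc.id (V : FEt.Cat X) : Bc (𝟙 X) V V := ⟨(restrictId X).app V⟩

end Groth.Agent.Pi1.H382.BC
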