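import Groth.Agent.Pi1.H382.StalkDvr
import Groth.Agent.Pi1.H382.BC
import Groth.Agent.S2922
import Groth.Agent.S0287

/-!
# Abhyankar's lemma at the generic point of the special fibre, and extension by purity
-/

set_option autoImplicit false
set_option linter.unusedSectionVars false

universe u

open CategoryTheory CategoryTheory.Limits AlgebraicGeometry IsLocalRing

namespace Groth.Agent.Pi1.H382.Abh

open Groth.Agent.Pi1.H382.StalkDvr Groth.Agent.Pi1.H382.BC Groth.Agent.Pi1.H382.Trait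

variable {V K : Type u} [CommRing V] [IsDomain V] [IsDiscreteValuationRing V] [Field K]
  [Algebra V K] [IsFractionRing V K] {Y G : Scheme.{u}} {p : Y ⟶ Spec (CommRingCat.of V)}
  {g : G ⟶ Y} {k : G ⟶ Spec (CommRingCat.of K)}

theorem isOpenImmersion_generic
    (hG : IsPullback g k p (Spec.map (CommRingCat.ofHom (algebraMap V K)))) : IsOpenImmersion g :=
  Groth.Agent.Models.DVRGeneric.isOpenImmersion_of_isPullback hG

theorem mem_range_iff (hG : IsPullback g k p (Spec.map (CommRingCat.ofHom (algebraMap V K))))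
    (y : Y) : y ∈ Set.range g ↔ p y ≠ closedPoint V := by
  have := isOpenImmersion_generic hG
  obtain ⟨ϖ, hϖ⟩ := IsDiscreteValuationRing.exists_irreducible V
  have h := Groth.Agent.Fga.DVRGeom.opensRange_eq p hG hϖ
  have h1 : y ∈ g.opensRange ↔ y ∈ Y.basicOpen (Groth.Agent.Fga.DVRGeom.scal p ϖ) := by rw [h]
  have h2 := Groth.Agent.Fga.DVRGeom.notMem_basicOpen_iff p hϖ y
  change y ∈ g.opensRange ↔ _
  rw [h1, ← not_iff_not, h2, not_not]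

/-- The family consisting of the germ of the uniformizer. -/
noncomputable abbrev fam (p : Y ⟶ Spec (CommRingCat.of V)) (ϖ : V) (ξ : Y) :
    Fin 1 → Y.presheaf.stalk ξ := fun _ => sm p ξ ϖ

/-- The punctured local scheme. -/
noncomputable abbrev dOpen (p : Y ⟶ Spec (CommRingCat.of V)) (ϖ : V) (ξ : Y) :
    (Spec (CommRingCat.of (Y.presheaf.stalk ξ))).Opens :=
  SGA1.specBasicOpen (Y.presheaf.stalk ξ) (∏ i, fam p ϖ ξ i)

theorem mem_dOpen_iff {ϖ : V} (hϖ : Irreducible ϖ) (ξ : Y)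
    (z : ↥(Spec (CommRingCat.of (Y.presheaf.stalk ξ)))) :
    z ∈ dOpen p ϖ ξ ↔ p (Y.fromSpecStalk ξ z) ≠ closedPoint V := by
  have h1 : z ∈ dOpen p ϖ ξ ↔ ¬ ((∏ i, fam p ϖ ξ i) ∈ z.asIdeal) := Iff.rfl
  rw [h1, Fin.prod_univ_one]
  exact not_congr (sm_mem_iff p hϖ ξ z)

theorem range_dOpen (hG : IsPullback g k p (Spec.map (CommRingCat.ofHom (algebraMap V K))))
    {ϖ : V} (hϖ : Irreducible ϖ) (ξ : Y) :
    Set.range ((dOpen p ϖ ξ).ι ≫ Y.fromSpecStalk ξ) ⊆ Set.range g := by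
  rintro _ ⟨z, rfl⟩
  rw [mem_range_iff hG, Scheme.Hom.comp_apply]
  exact (mem_dOpen_iff hϖ ξ _).mp z.2

/-- The map from the punctured local scheme to the generic fibre. -/
noncomputable def jmap (hG : IsPullback g k p (Spec.map (CommRingCat.ofHom (algebraMap V K))))
    {ϖ : V} (hϖ : Irreducible ϖ) (ξ : Y) : (dOpen p ϖ ξ : Scheme.{u}) ⟶ G :=
  have := isOpenImmersion_generic hG
  IsOpenImmersion.lift g ((dOpen p ϖ ξ).ι ≫ Y.fromSpecStalk ξ) (range_dOpen hG hϖ ξ)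

@[reassoc]
theorem jmap_fac (hG : IsPullback g k p (Spec.map (CommRingCat.ofHom (algebraMap V K))))
    {ϖ : V} (hϖ : Irreducible ϖ) (ξ : Y) :
    jmap hG hϖ ξ ≫ g = (dOpen p ϖ ξ).ι ≫ Y.fromSpecStalk ξ :=
  have := isOpenImmersion_generic hG
  IsOpenImmersion.lift_fac g _ (range_dOpen hG hϖ ξ)

/-- Tameness of a cover of the generic fibre along the special fibre, at a point `ξ`. -/
def TameAt [Smooth p] (hG : IsPullback g k p (Spec.map (CommRingCat.ofHom (algebraMap V K))))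
    {ϖ : V} (hϖ : Irreducible ϖ) {ξ : Y} (hξ : p ξ = closedPoint V) (W₀ : FEt.Cat G) : Prop :=
  have : ∀ i, (Ideal.span {fam p ϖ ξ i}).IsPrime := fun _ => isPrime_span p hϖ hξ
  SGA1.IsTameAlong (fam p ϖ ξ) ((((((FEt.restrict (jmap hG hϖ ξ)).obj W₀).hom ≫
    (dOpen p ϖ ξ).ι).appTop).hom.comp
      (Scheme.ΓSpecIso (CommRingCat.of (Y.presheaf.stalk ξ))).inv.hom))

/-- The map out of a Kummer algebra. -/
noncomputable def kumMap {O O₂ : Type u} [CommRing O] [CommRing O₂] (φ : O →+* O₂) (f : Fin 1 → O)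
    (n : Fin 1 → ℕ) (τ : O₂) (hτ : ∀ i, τ ^ n i = φ (f i)) : SGA1.kummerAlg O f n →+* O₂ :=
  Ideal.Quotient.lift _ (MvPolynomial.eval₂Hom φ (fun _ => τ)) (by
    intro a ha
    have h : Ideal.span (Set.range fun i => (MvPolynomial.X i : MvPolynomial (Fin 1) O) ^ n i -
        MvPolynomial.C (f i)) ≤ RingHom.ker (MvPolynomial.eval₂Hom φ (fun _ => τ)) := by
      rw [Ideal.span_le]
      rintro _ ⟨i, rfl⟩
      simp [RingHom.mem_ker, hτ]
    exact h ha)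

theorem kumMap_algebraMap {O O₂ : Type u} [CommRing O] [CommRing O₂] (φ : O →+* O₂)
    (f : Fin 1 → O) (n : Fin 1 → ℕ) (τ : O₂) (hτ : ∀ i, τ ^ n i = φ (f i)) :
    (kumMap φ f n τ hτ).comp (algebraMap O (SGA1.kummerAlg O f n)) = φ := by
  ext a
  exact MvPolynomial.eval₂Hom_C φ (fun _ => τ) a

/-- Abhyankar's lemma at the generic point of the special fibre. -/
theorem exists_ext [Smooth p]
    (hG : IsPullback g k p (Spec.map (CommRingCat.ofHom (algebraMap V K))))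
    {ϖ : V} (hϖ : Irreducible ϖ) {ξ : Y} (hξ : p ξ = closedPoint V)
    (hgen : ∀ y : Y, p y = closedPoint V → ξ ⤳ y) (W₀ : FEt.Cat G) (ht : TameAt hG hϖ hξ W₀) :
    ∃ n : ℕ, 1 ≤ n ∧ IsUnit ((n : ℕ) : ResidueField (Y.presheaf.stalk ξ)) ∧
      ∀ (O₂ : Type u) [CommRing O₂] (φ : Y.presheaf.stalk ξ →+* O₂) (τ : O₂)
        (_ : τ ^ n = φ (sm p ξ ϖ)), ∃ W₂ : FEt.Cat (Spec (CommRingCat.of O₂)),
        ∀ (P : Scheme.{u}) (a : P ⟶ Spec (CommRingCat.of O₂)) (b : P ⟶ G),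
          b ≫ g = a ≫ Spec.map (CommRingCat.ofHom φ) ≫ Y.fromSpecStalk ξ →
          Nonempty ((FEt.restrict a).obj W₂ ≅ (FEt.restrict b).obj W₀) := by
  have hreg := isRegularLocalRing p ξ
  have hdom := isDomain p ξ
  have hpr : ∀ i, (Ideal.span {fam p ϖ ξ i}).IsPrime := fun _ => isPrime_span p hϖ hξ
  have hg := isOpenImmersion_generic hG
  obtain ⟨n, hn1, hn2, W, ⟨e⟩⟩ := Groth.Agent.S2922.result (Y.presheaf.stalk ξ) 1 (fam p ϖ ξ)
    (fun _ => sm_mem_maximalIdeal p hϖ hξ) (linearIndependent p hϖ hξ hgen)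
    ((FEt.restrict (jmap hG hϖ ξ)).obj W₀) ht
  refine ⟨n 0, hn1 0, hn2 0, ?_⟩
  intro O₂ _ φ τ hτ
  have hτ' : ∀ i, τ ^ n i = φ (fam p ϖ ξ i) := fun i => by
    rw [Subsingleton.elim i 0]; exact hτ
  let κ := kumMap φ (fam p ϖ ξ) n τ hτ'
  let κ₀ : Spec (CommRingCat.of (SGA1.kummerAlg (Y.presheaf.stalk ξ) (fam p ϖ ξ) n)) ⟶
      Spec (CommRingCat.of (Y.presheaf.stalk ξ)) :=
    Spec.map (CommRingCat.ofHom (algebraMap (Y.presheaf.stalk ξ)
      (SGA1.kummerAlg (Y.presheaf.stalk ξ) (fam p ϖ ξ) n)))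
  let sκ : Spec (CommRingCat.of O₂) ⟶
      Spec (CommRingCat.of (SGA1.kummerAlg (Y.presheaf.stalk ξ) (fam p ϖ ξ) n)) :=
    Spec.map (CommRingCat.ofHom κ)
  have hκ : sκ ≫ κ₀ = Spec.map (CommRingCat.ofHom φ) := by
    simp only [sκ, κ₀]
    rw [← Spec.map_comp, ← CommRingCat.ofHom_comp, kumMap_algebraMap]
  refine ⟨(FEt.restrict sκ).obj W, fun P a b hb => ?_⟩
  have hr : Set.range (a ≫ sκ) ⊆ Set.range (κ₀ ⁻¹ᵁ (dOpen p ϖ ξ)).ι := by
    rintro _ ⟨x, rfl⟩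
    rw [Scheme.Opens.range_ι]
    change κ₀ ((a ≫ sκ) x) ∈ dOpen p ϖ ξ
    rw [← Scheme.Hom.comp_apply, Category.assoc, hκ]
    refine (mem_dOpen_iff hϖ ξ _).mpr ?_
    have h1 : g (b x) = Y.fromSpecStalk ξ ((a ≫ Spec.map (CommRingCat.ofHom φ)) x) := by
      rw [← Scheme.Hom.comp_apply, hb, ← Scheme.Hom.comp_apply, Category.assoc]
    rw [← h1]
    exact (mem_range_iff hG _).mp ⟨_, rfl⟩
  let c : P ⟶ ((κ₀ ⁻¹ᵁ (dOpen p ϖ ξ)) : Scheme.{u}) :=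
    IsOpenImmersion.lift (κ₀ ⁻¹ᵁ (dOpen p ϖ ξ)).ι (a ≫ sκ) hr
  have hc : c ≫ (κ₀ ⁻¹ᵁ (dOpen p ϖ ξ)).ι = a ≫ sκ := IsOpenImmersion.lift_fac _ _ hr
  have hcb : c ≫ (κ₀ ∣_ (dOpen p ϖ ξ)) ≫ jmap hG hϖ ξ = b := by
    rw [← cancel_mono g, Category.assoc, Category.assoc, jmap_fac, hb, ← Category.assoc (κ₀ ∣_ _),
      morphismRestrict_ι, Category.assoc, ← Category.assoc c, hc, Category.assoc,
      ← Category.assoc sκ, hκ]
  -- assemble
  have e1 : Bc (a ≫ sκ) W ((FEt.restrict a).obj ((FEt.restrict sκ).obj W)) :=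
    (Bc.refl sκ W).comp (Bc.refl a _)
  have e2 : Bc (a ≫ sκ) W ((FEt.restrict c).obj
      ((FEt.restrict (κ₀ ⁻¹ᵁ (dOpen p ϖ ξ)).ι).obj W)) :=
    (Bc.refl (κ₀ ⁻¹ᵁ (dOpen p ϖ ξ)).ι W).comp' hc (Bc.refl c _)
  have e3 : Bc b W₀ ((FEt.restrict c).obj ((FEt.restrict (κ₀ ∣_ (dOpen p ϖ ξ))).obj
      ((FEt.restrict (jmap hG hϖ ξ)).obj W₀))) :=
    ((Bc.refl (jmap hG hϖ ξ) W₀).comp (Bc.refl (κ₀ ∣_ (dOpen p ϖ ξ)) _)).comp'
      hcb (Bc.refl c _)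
  obtain ⟨i1⟩ := e1.unique e2
  obtain ⟨i3⟩ := e3
  exact ⟨i1 ≪≫ (FEt.restrict c).mapIso e ≪≫ i3.symm⟩

end Groth.Agent.Pi1.H382.Abh
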