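import Mathlib.RingTheory.DedekindDomain.IntegralClosure
import Mathlib.RingTheory.DedekindDomain.Dvr
import Mathlib.RingTheory.DiscreteValuationRing.Basic
import Mathlib.RingTheory.Ideal.GoingUp
import Mathlib.RingTheory.Henselian
import Mathlib.FieldTheory.IsSepClosed
import Mathlib.FieldTheory.PurelyInseparable.Basic
import Mathlib.RingTheory.LocalRing.ResidueField.Basic
import Mathlib.FieldTheory.IsAlgClosed.Basic
import Groth.Agent.VarietyB.KrullAkizuki
import Groth.Agent.Flat2B.GINLocal
import Groth.Agent.Etrest.IntHens

/-!
# Finite extensions of strictly henselian discrete valuation rings

Let `A` be a henselian discrete valuation ring with fraction field `K` and `L / K` a finite extension.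
Then the integral closure of `A` in `L` is a henselian discrete valuation ring.
-/

set_option autoImplicit false
set_option linter.unusedSectionVars false

universe u

open IsLocalRing

namespace Groth.Agent.Pi1.H382.DvrExt

section

variable (A : Type u) [CommRing A] [IsDomain A] [IsDiscreteValuationRing A] [HenselianLocalRing A]
  (K : Type u) [Field K] [Algebra A K] [IsFractionRing A K]
  (L : Type u) [Field L] [Algebra A L] [Algebra K L] [IsScalarTower A K L] [FiniteDimensional K L]

include K

omit [IsDiscreteValuationRing A] [HenselianLocalRing A] [FiniteDimensional K L] in
theorem injective_algebraMap : Function.Injective (algebraMap A L) := by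
  rw [IsScalarTower.algebraMap_eq A K L]
  exact (algebraMap K L).injective.comp (IsFractionRing.injective A K)

omit [IsDiscreteValuationRing A] [HenselianLocalRing A] [FiniteDimensional K L] in
theorem injective_algebraMap_integralClosure :
    Function.Injective (algebraMap A (integralClosure A L)) := by
  intro x y hxy
  exact injective_algebraMap A K L (congrArg (algebraMap (integralClosure A L) L) hxy)

theorem isFractionRing : IsFractionRing (integralClosure A L) L :=
  integralClosure.isFractionRing_of_finite_extension K L

theorem isLocalRing : IsLocalRing (integralClosure A L) :=
  Groth.Agent.Flat2B.GINLocal.isLocalRing_of_isIntegral_of_isDomain A _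

theorem isDiscreteValuationRing : IsDiscreteValuationRing (integralClosure A L) := by
  have : IsFractionRing (integralClosure A L) L := isFractionRing A K L
  have : IsNoetherianRing (integralClosure A L) :=
    Groth.Agent.VarietyB.KrullAkizuki.krullAkizuki (R := A) (K := K) (L := L) Subtype.val_injective
  have : IsIntegrallyClosed (integralClosure A L) :=
    integralClosure.isIntegrallyClosedOfFiniteExtension K
  have : Ring.DimensionLEOne (integralClosure A L) := inferInstance
  have hD : IsDedekindDomain (integralClosure A L) := {}
  have : IsLocalRing (integralClosure A L) := isLocalRing A K L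
  have hne : ¬ IsField (integralClosure A L) := by
    intro h
    have h2 : IsField A :=
      isField_of_isIntegral_of_isField (injective_algebraMap_integralClosure A K L) h
    exact IsDiscreteValuationRing.not_isField A h2
  exact ((IsDiscreteValuationRing.TFAE (integralClosure A L) hne).out 0 2).mpr hD

end

section residue

variable (A B : Type u) [CommRing A] [IsLocalRing A] [CommRing B] [IsLocalRing B] [Algebra A B]
  [Algebra.IsIntegral A B] [IsLocalHom (algebraMap A B)]

theorem isAlgebraic_residueField : Algebra.IsAlgebraic (ResidueField A) (ResidueField B) := by
  have h1 : Algebra.IsIntegral B (ResidueField B) :=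
    Algebra.isIntegral_of_surjective residue_surjective
  have h2 : Algebra.IsIntegral A (ResidueField B) := Algebra.IsIntegral.trans B
  have h3 : Algebra.IsIntegral (ResidueField A) (ResidueField B) :=
    Algebra.IsIntegral.tower_top (R := A)
  infer_instance

theorem isSepClosed_residueField [IsSepClosed (ResidueField A)] : IsSepClosed (ResidueField B) := by
  have := isAlgebraic_residueField A B
  exact Algebra.IsAlgebraic.isSepClosed (F := ResidueField A) (E := ResidueField B)

end residue

end Groth.Agent.Pi1.H382.DvrExt
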