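import Groth.Agent.Pi1.H382.Abh
import Groth.Agent.Pi1B.ExtBasic

/-!
# Extension over the special fibre after a Kummer extension of the base
-/

set_option autoImplicit false
set_option linter.unusedSectionVars false

universe u

open CategoryTheory CategoryTheory.Limits AlgebraicGeometry IsLocalRing

namespace Groth.Agent.Pi1.H382.Extend

open Groth.Agent.Pi1.H382.StalkDvr Groth.Agent.Pi1.H382.BC Groth.Agent.Pi1.H382.Trait
open Groth.Agent.Pi1.H382.Abh

section

variable {V K : Type u} [CommRing V] [IsDomain V] [IsDiscreteValuationRing V] [Field K]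
  [Algebra V K] [IsFractionRing V K] {Y G : Scheme.{u}} {p : Y ⟶ Spec (CommRingCat.of V)}
  {g : G ⟶ Y} {k : G ⟶ Spec (CommRingCat.of K)}

theorem specMap_closedPoint {V₂ : Type u} [CommRing V₂] [IsLocalRing V₂] (ψ : V →+* V₂)
    [IsLocalHom ψ] : Spec.map (CommRingCat.ofHom ψ) (closedPoint V₂) = closedPoint V :=
  IsLocalRing.comap_closedPoint ψ

theorem specMap_bot {V₂ : Type u} [CommRing V₂] [IsDomain V₂] (ψ : V →+* V₂)
    (hψ : Function.Injective ψ) :
    Spec.map (CommRingCat.ofHom ψ) (⊥ : PrimeSpectrum V₂) = (⊥ : PrimeSpectrum V) := by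
  apply PrimeSpectrum.ext
  change Ideal.comap ψ ⊥ = ⊥
  rw [← RingHom.ker_eq_comap_bot]
  exact (RingHom.injective_iff_ker_eq_bot ψ).mp hψ

theorem eq_closedPoint_or_eq_bot (x : PrimeSpectrum V) : x = closedPoint V ∨ x = ⊥ := by
  rcases Groth.Agent.Models.DVRGeneric.eq_closedPoint_or_eq_bot V x with h | h
  · exact Or.inl h
  · exact Or.inr (PrimeSpectrum.ext h)

/-- Compatibility of structure maps of stalks. -/
theorem stalkMap_sm {V₂ : Type u} [CommRing V₂] {Y₂ : Scheme.{u}}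
    {p₂ : Y₂ ⟶ Spec (CommRingCat.of V₂)} (h : Y₂ ⟶ Y) (ψ : V →+* V₂)
    (hw : h ≫ p = p₂ ≫ Spec.map (CommRingCat.ofHom ψ)) (y : Y₂) (a : V) :
    (h.stalkMap y).hom (sm p (h y) a) = sm p₂ y (ψ a) := by
  have h1 : (h.stalkMap y).hom.comp (sm p (h y)) = (sm p₂ y).comp ψ := by
    have h2 : Spec.map (CommRingCat.ofHom ((h.stalkMap y).hom.comp (sm p (h y)))) =
        Spec.map (CommRingCat.ofHom ((sm p₂ y).comp ψ)) := by
      rw [CommRingCat.ofHom_comp, CommRingCat.ofHom_comp, Spec.map_comp, Spec.map_comp, specMap_sm,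
        specMap_sm, Category.assoc, ← hw, ← Category.assoc, ← Category.assoc]
      congr 1
      exact Scheme.SpecMap_stalkMap_fromSpecStalk h
    exact congrArg CommRingCat.Hom.hom (Spec.map_injective h2)
  exact congrArg (fun q : V →+* Y₂.presheaf.stalk y => q a) h1

end

/-- The generic fibre of a flat scheme over a discrete valuation ring is dense. -/
theorem dense_generic {V K : Type u} [CommRing V] [IsDomain V] [IsDiscreteValuationRing V] [Field K]
    [Algebra V K] [IsFractionRing V K] {Y G : Scheme.{u}} {p : Y ⟶ Spec (CommRingCat.of V)}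
    [Flat p] {g : G ⟶ Y} {k : G ⟶ Spec (CommRingCat.of K)}
    (hG : IsPullback g k p (Spec.map (CommRingCat.ofHom (algebraMap V K)))) :
    Dense (Set.range g) := by
  intro y
  obtain ⟨y', h1, h2⟩ := exists_generic p y
  refine h1.mem_closed isClosed_closure (subset_closure ?_)
  rw [mem_range_iff hG, h2]
  exact bot_ne_closedPoint

/-- Extension of a cover of the generic fibre, tame along the special fibre, after adjoining an
`n`-th root of the uniformizer. -/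
theorem exists_extension {V K : Type u} [CommRing V] [IsDomain V] [IsDiscreteValuationRing V]
    [Field K] [Algebra V K] [IsFractionRing V K] {Y G : Scheme.{u}}
    {p : Y ⟶ Spec (CommRingCat.of V)} {g : G ⟶ Y} {k : G ⟶ Spec (CommRingCat.of K)} [Smooth p]
    (hG : IsPullback g k p (Spec.map (CommRingCat.ofHom (algebraMap V K))))
    {ϖ : V} (hϖ : Irreducible ϖ) {ξ : Y} (hξ : p ξ = closedPoint V)
    (hgen : ∀ y : Y, p y = closedPoint V → ξ ⤳ y) (W₀ : FEt.Cat G) (ht : TameAt hG hϖ hξ W₀) :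
    ∃ n : ℕ, 1 ≤ n ∧ IsUnit ((n : ℕ) : ResidueField (Y.presheaf.stalk ξ)) ∧
      ∀ (V₂ K₂ : Type u) [CommRing V₂] [IsDomain V₂] [IsDiscreteValuationRing V₂] [Field K₂]
        [Algebra V₂ K₂] [IsFractionRing V₂ K₂] (ψ : V →+* V₂) [IsLocalHom ψ]
        (_ : Function.Injective ψ) (t : V₂) (_ : t ^ n = ψ ϖ) (Y₂ G₂ : Scheme.{u})
        (p₂ : Y₂ ⟶ Spec (CommRingCat.of V₂)) [Smooth p₂] (h : Y₂ ⟶ Y) [Flat h]
        (_ : h ≫ p = p₂ ≫ Spec.map (CommRingCat.ofHom ψ))
        (g₂ : G₂ ⟶ Y₂) (k₂ : G₂ ⟶ Spec (CommRingCat.of K₂))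
        (_ : IsPullback g₂ k₂ p₂ (Spec.map (CommRingCat.ofHom (algebraMap V₂ K₂))))
        (m : G₂ ⟶ G) (_ : m ≫ g = g₂ ≫ h),
        ∃ Y' : FEt.Cat Y₂, Nonempty ((FEt.restrict g₂).obj Y' ≅ (FEt.restrict m).obj W₀) := by
  obtain ⟨n, hn1, hn2, hn3⟩ := exists_ext hG hϖ hξ hgen W₀ ht
  refine ⟨n, hn1, hn2, ?_⟩
  intro V₂ K₂ _ _ _ _ _ _ ψ _ hψ t htn Y₂ G₂ p₂ _ h _ hw g₂ k₂ hG₂ m hm
  have hg₂ := isOpenImmersion_generic hG₂
  have hYn : IsLocallyNoetherian Y₂ := LocallyOfFiniteType.isLocallyNoetherian p₂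
  let U : Y₂.Opens := g₂.opensRange
  let e : (U : Scheme.{u}) ⟶ G₂ := g₂.isoOpensRange.inv
  have he : e ≫ g₂ = U.ι := g₂.isoOpensRange_inv_comp
  let Z : FEt.Cat (U : Scheme.{u}) := (FEt.restrict (e ≫ m)).obj W₀
  have hU : ∀ y : Y₂, y ∉ U → p₂ y = closedPoint V₂ := by
    intro y hy
    by_contra h1
    exact hy ((mem_range_iff hG₂ y).mpr h1)
  obtain ⟨Y', ⟨i⟩⟩ := Groth.Agent.S0287.result U (dense_generic hG₂) Z
    (fun x _ => isRegularLocalRing p₂ x) (by
      intro ξ₂ hξ₂ hdim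
      have hp₂ := hU ξ₂ hξ₂
      -- the image of `ξ₂` is `ξ`
      have hph : ∀ y : Y₂, p (h y) = Spec.map (CommRingCat.ofHom ψ) (p₂ y) := by
        intro y
        rw [← Scheme.Hom.comp_apply, hw, Scheme.Hom.comp_apply]
      have hx : p (h ξ₂) = closedPoint V := by
        rw [hph, hp₂]
        exact specMap_closedPoint ψ
      obtain ⟨ξ₂', h1, h2⟩ := Flat.generalizingMap h (hgen _ hx)
      have hp₂' : p₂ ξ₂' = closedPoint V₂ := by
        rcases eq_closedPoint_or_eq_bot (p₂ ξ₂') with h3 | h3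
        · exact h3
        · exfalso
          have h4 := hph ξ₂'
          rw [h2, hξ, h3] at h4
          exact bot_ne_closedPoint ((specMap_bot ψ hψ).symm.trans h4.symm)
      have h3 : ξ₂' = ξ₂ := eq_of_specializes p₂ h1 hp₂' hdim.le
      subst h3
      subst h2
      obtain ⟨W₂, hW₂⟩ := hn3 (Y₂.presheaf.stalk ξ₂') (h.stalkMap ξ₂').hom (sm p₂ ξ₂' t) (by
        rw [stalkMap_sm h ψ hw, ← htn, map_pow])
      refine ⟨W₂, ?_⟩
      obtain ⟨i⟩ := hW₂ (pullback U.ι (Y₂.fromSpecStalk ξ₂'))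
        (pullback.snd U.ι (Y₂.fromSpecStalk ξ₂'))
        (pullback.fst U.ι (Y₂.fromSpecStalk ξ₂') ≫ e ≫ m) (by
          rw [Category.assoc, Category.assoc, hm, ← Category.assoc e, he, ← Category.assoc,
            pullback.condition, Category.assoc]
          congr 1
          exact (Scheme.SpecMap_stalkMap_fromSpecStalk h).symm)
      obtain ⟨j⟩ := (Bc.refl (e ≫ m) W₀).comp
        (Bc.refl (pullback.fst U.ι (Y₂.fromSpecStalk ξ₂')) Z)
      exact ⟨i ≪≫ j⟩)
  refine ⟨Y', ?_⟩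
  have e1 : Bc g₂ Y' ((FEt.restrict g₂.isoOpensRange.hom).obj Z) :=
    (show Bc U.ι Y' Z from ⟨i⟩).comp' (g₂.isoOpensRange_hom_ι) (Bc.refl _ Z)
  have e2 : Bc m W₀ ((FEt.restrict g₂.isoOpensRange.hom).obj Z) :=
    (Bc.refl (e ≫ m) W₀).comp' (by
      rw [← Category.assoc]
      change (g₂.isoOpensRange.hom ≫ g₂.isoOpensRange.inv) ≫ m = m
      rw [Iso.hom_inv_id, Category.id_comp]) (Bc.refl _ Z)
  obtain ⟨i1⟩ := e1
  obtain ⟨i2⟩ := e2
  exact ⟨i1 ≪≫ i2.symm⟩

end Groth.Agent.Pi1.H382.Extend
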