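import Groth.Agent.Pi1.H382.Desc
import Groth.Agent.Pi1.H382.DvrExt
import Groth.Agent.Pi1.H382.Extend
import Groth.Agent.Pi1.H416.SHProper

/-!
# Covers of the geometric generic fibre which are tame along the special fibre come from the total
space
-/

set_option autoImplicit false
set_option linter.unusedSectionVars false

universe u

open CategoryTheory CategoryTheory.Limits AlgebraicGeometry IsLocalRing

namespace Groth.Agent.Pi1.H382.Assemble

open Groth.Agent.Pi1.H382.StalkDvr Groth.Agent.Pi1.H382.BC Groth.Agent.Pi1.H382.Trait
open Groth.Agent.Pi1.H382.Abh Groth.Agent.Pi1.H382.Extend Groth.Agent.Pi1.H382.Desc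
open Groth.Agent.Pi1.H382.PullMap

/-- Geometric fibres of a base change. -/
theorem connectedSpace_pullback {B S T X : Scheme.{u}} (f : X ⟶ B) (s : S ⟶ B) (t : T ⟶ S)
    [h : ConnectedSpace ↥(pullback f (t ≫ s))] : ConnectedSpace ↥(pullback (pullback.snd f s) t) := by
  have h1 := (IsPullback.of_hasPullback (pullback.snd f s) t).flip.paste_vert
    (IsPullback.of_hasPullback f s).flip
  exact (h1.flip.isoPullback.hom.homeomorph.connectedSpace_iff).mpr h

/-- The generic point of the special fibre of a base change to a discrete valuation ring. -/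
theorem exists_xi {A : Type u} [CommRing A] (V : Type u) [CommRing V] [IsDomain V]
    [IsDiscreteValuationRing V] [Algebra A V] {X : Scheme.{u}} (f : X ⟶ Spec (CommRingCat.of A))
    [Smooth f]
    (hfib : ∀ (K : Type u) [Field K] [IsAlgClosed K]
      (s : Spec (CommRingCat.of K) ⟶ Spec (CommRingCat.of A)), ConnectedSpace ↥(pullback f s)) :
    ∃ ξ : ↥(pullback f (toBase A V)), pullback.snd f (toBase A V) ξ = closedPoint V ∧
      ∀ y, pullback.snd f (toBase A V) y = closedPoint V → ξ ⤳ y := by
  let k := AlgebraicClosure (ResidueField V)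
  let s : Spec (CommRingCat.of k) ⟶ Spec (CommRingCat.of V) :=
    Spec.map (CommRingCat.ofHom ((algebraMap (ResidueField V) k).comp (residue V)))
  have hs : s (⊥ : PrimeSpectrum k) = closedPoint V := by
    apply PrimeSpectrum.ext
    change Ideal.comap ((algebraMap (ResidueField V) k).comp (residue V)) ⊥ = maximalIdeal V
    rw [← Ideal.comap_comap, Ideal.comap_bot_of_injective _ (algebraMap (ResidueField V) k).injective]
    exact ker_residue
  have := hfib k (s ≫ toBase A V)
  have := connectedSpace_pullback f (toBase A V) s
  exact exists_special_generic (pullback.snd f (toBase A V)) s hs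

section

variable {A : Type u} [CommRing A] [IsDomain A] [IsDiscreteValuationRing A]
  [HenselianLocalRing A] [IsSepClosed (ResidueField A)] {K Ω : Type u} [Field K] [Algebra A K]
  [IsFractionRing A K] [Field Ω] [Algebra A Ω] [Algebra K Ω] [IsScalarTower A K Ω]
  [Algebra.IsAlgebraic K Ω] [IsAlgClosed Ω]
  {X : Scheme.{u}} (f : X ⟶ Spec (CommRingCat.of A)) [IsProper f] [Smooth f]

/-- A cover of `X_L` which is tame along the special fibre of `X_{A_L}` becomes, over `Ω`, the
restriction of a cover of `X`. -/
theorem mem_essImage
    (hfib : ∀ (K : Type u) [Field K] [IsAlgClosed K]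
      (s : Spec (CommRingCat.of K) ⟶ Spec (CommRingCat.of A)), ConnectedSpace ↥(pullback f s))
    (L : IntermediateField K Ω) [FiniteDimensional K L] (W₀ : FEt.Cat (pullback f (toBase A L)))
    (htame : ∀ [IsDiscreteValuationRing (integralClosure A L)]
      [IsFractionRing (integralClosure A L) L] (ϖ : integralClosure A L) (hϖ : Irreducible ϖ)
      (ξ : ↥(pullback f (toBase A (integralClosure A L))))
      (hξ : pullback.snd f (toBase A (integralClosure A L)) ξ = closedPoint (integralClosure A L)),
      (∀ y, pullback.snd f (toBase A (integralClosure A L)) y = closedPoint _ → ξ ⤳ y) →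
      TameAt (isPullback_pm (toBase_comp A (integralClosure A L) L)) hϖ hξ W₀) :
    (FEt.restrict (pullback.fst f (toBase A Ω))).essImage
      ((FEt.restrict (trans f L Ω)).obj W₀) := by
  have i1 : IsDiscreteValuationRing (integralClosure A L) := DvrExt.isDiscreteValuationRing A K L
  have i2 : IsFractionRing (integralClosure A L) L := DvrExt.isFractionRing A K L
  obtain ⟨ϖ, hϖ⟩ := IsDiscreteValuationRing.exists_irreducible (integralClosure A L)
  obtain ⟨ξ, hξ, hgen⟩ := exists_xi (integralClosure A L) f hfib
  obtain ⟨n, hn1, -, hn⟩ := exists_extension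
    (isPullback_pm (toBase_comp A (integralClosure A L) L)) hϖ hξ hgen W₀ (htame ϖ hϖ ξ hξ hgen)
  -- adjoin an `n`-th root
  obtain ⟨t, ht⟩ := IsAlgClosed.exists_pow_nat_eq (k := Ω) ((ϖ : L) : Ω) hn1
  let L₂ : IntermediateField K Ω := L ⊔ IntermediateField.adjoin K {t}
  have hle : L ≤ L₂ := le_sup_left
  have htL₂ : t ∈ L₂ :=
    (le_sup_right : IntermediateField.adjoin K {t} ≤ L₂) (IntermediateField.mem_adjoin_simple_self K t)
  have hfd1 : FiniteDimensional K (IntermediateField.adjoin K {t}) :=
    IntermediateField.adjoin.finiteDimensional (Algebra.IsIntegral.isIntegral t)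
  have hfd : FiniteDimensional K L₂ := inferInstance
  let _ : Algebra L L₂ := (IntermediateField.inclusion hle).toRingHom.toAlgebra
  have : IsScalarTower A L L₂ := IsScalarTower.of_algebraMap_eq' rfl
  have : IsScalarTower L L₂ Ω := IsScalarTower.of_algebraMap_eq' rfl
  have j1 : IsDiscreteValuationRing (integralClosure A L₂) := DvrExt.isDiscreteValuationRing A K L₂
  have j2 : IsFractionRing (integralClosure A L₂) L₂ := DvrExt.isFractionRing A K L₂
  have j3 : HenselianLocalRing (integralClosure A L₂) :=
    Groth.Agent.Etrest.IntHens.henselianLocalRing_of_isIntegral A (integralClosure A L₂)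
  let ψ : integralClosure A L →ₐ[A] integralClosure A L₂ :=
    (IsScalarTower.toAlgHom A L L₂).mapIntegralClosure
  let _ : Algebra (integralClosure A L) (integralClosure A L₂) := ψ.toRingHom.toAlgebra
  have hψinj : Function.Injective ψ := by
    intro x y hxy
    apply Subtype.ext
    apply (algebraMap L L₂).injective
    exact congrArg (fun z : integralClosure A L₂ => (z : L₂)) hxy
  have k1 : IsScalarTower A (integralClosure A L) (integralClosure A L₂) :=
    IsScalarTower.of_algebraMap_eq' ψ.comp_algebraMap.symm
  have k2 : Algebra.IsIntegral (integralClosure A L) (integralClosure A L₂) :=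
    Algebra.IsIntegral.tower_top (R := A)
  have k3 : IsLocalHom (algebraMap (integralClosure A L) (integralClosure A L₂)) :=
    (algebraMap_isIntegral_iff.mpr k2).isLocalHom hψinj
  have k4 : IsLocalHom (algebraMap A (integralClosure A L₂)) :=
    (algebraMap_isIntegral_iff.mpr inferInstance).isLocalHom
      (DvrExt.injective_algebraMap_integralClosure A K L₂)
  have k5 : IsSepClosed (ResidueField (integralClosure A L₂)) :=
    DvrExt.isSepClosed_residueField A (integralClosure A L₂)
  have k6 : Module.IsTorsionFree (integralClosure A L) (integralClosure A L₂) := by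
    have : FaithfulSMul (integralClosure A L) (integralClosure A L₂) :=
      (faithfulSMul_iff_algebraMap_injective _ _).mpr hψinj
    infer_instance
  have k7 : Module.Flat (integralClosure A L) (integralClosure A L₂) := inferInstance
  -- the root in the integral closure
  have htint : IsIntegral A (⟨t, htL₂⟩ : L₂) := by
    refine IsIntegral.of_pow hn1 ?_
    have h1 : (⟨t, htL₂⟩ : L₂) ^ n = algebraMap (integralClosure A L₂) L₂ (ψ ϖ) := by
      apply Subtype.ext
      exact ht
    rw [h1]
    exact (ψ ϖ).2
  let t₂ : integralClosure A L₂ := ⟨⟨t, htL₂⟩, htint⟩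
  have ht₂ : t₂ ^ n = algebraMap (integralClosure A L) (integralClosure A L₂) ϖ := by
    apply Subtype.ext
    apply Subtype.ext
    exact ht
  -- the geometry
  have hflat : Flat (toBase (integralClosure A L) (integralClosure A L₂)) := by
    rw [toBase, Flat.SpecMap_iff]
    exact RingHom.flat_algebraMap_iff.mpr k7
  have hflat' : Flat (trans f (integralClosure A L) (integralClosure A L₂)) :=
    MorphismProperty.of_isPullback (P := @Flat)
      (isPullback_pm (f := f) (toBase_comp A (integralClosure A L) (integralClosure A L₂))).flip hflat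
  obtain ⟨Y', ⟨e⟩⟩ := hn (integralClosure A L₂) L₂
    (algebraMap (integralClosure A L) (integralClosure A L₂)) hψinj t₂ ht₂
    (pullback f (toBase A (integralClosure A L₂))) (pullback f (toBase A L₂))
    (pullback.snd f _) (trans f (integralClosure A L) (integralClosure A L₂))
    (isPullback_pm _).w (trans f (integralClosure A L₂) L₂) (pullback.snd f _)
    (isPullback_pm _) (trans f L L₂) (by
      apply pullback.hom_ext
      · simp
      · simp only [Category.assoc, pm_snd, pm_snd_assoc]
        rw [← Spec.map_comp, ← Spec.map_comp]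
        rfl)
  -- covers of `X_{A_{L₂}}` come from `X`
  have hEq : (FEt.restrict (pullback.fst f (toBase A (integralClosure A L₂)))).IsEquivalence :=
    Groth.Agent.Pi1.H416.SHProper.restrict_isEquivalence A (integralClosure A L₂) f
  obtain ⟨W, ⟨eW⟩⟩ := hEq.essSurj.mem_essImage Y'
  have b1 : Bc (pullback.fst f (toBase A (integralClosure A L₂))) W Y' := ⟨eW⟩
  have b2 : Bc (trans f (integralClosure A L₂) L₂) Y' ((FEt.restrict (trans f L L₂)).obj W₀) := ⟨e⟩
  have b3 : Bc (trans f L₂ Ω) ((FEt.restrict (trans f L L₂)).obj W₀)
      ((FEt.restrict (trans f L Ω)).obj W₀) :=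
    (Bc.refl (trans f L L₂) W₀).of_comp (by
      apply pullback.hom_ext
      · simp
      · simp only [Category.assoc, pm_snd, pm_snd_assoc]
        rw [toBase_comp]) (Bc.refl _ _)
  obtain ⟨i⟩ := (b1.comp b2).comp' (q := pullback.fst f (toBase A Ω)) (by simp) b3
  exact ⟨W, ⟨i⟩⟩

end

end Groth.Agent.Pi1.H382.Assemble
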