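import Mathlib.AlgebraicGeometry.Pullbacks
import Mathlib.AlgebraicGeometry.Morphisms.Flat

/-!
# Maps between base changes of a fixed morphism
-/

set_option autoImplicit false

universe u v

open CategoryTheory CategoryTheory.Limits AlgebraicGeometry

namespace Groth.Agent.Pi1.H382.PullMap

section

variable {C : Type u} [Category.{v} C] [HasPullbacks C] {X B S S' S'' : C} (f : X ⟶ B)

/-- The map `X ×_B S' ⟶ X ×_B S` induced by `q : S' ⟶ S`. -/
noncomputable def pm (s : S ⟶ B) (s' : S' ⟶ B) (q : S' ⟶ S) (hq : q ≫ s = s') :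
    pullback f s' ⟶ pullback f s :=
  pullback.lift (pullback.fst _ _) (pullback.snd _ _ ≫ q) (by
    rw [Category.assoc, hq, pullback.condition])

variable {f} {s : S ⟶ B} {s' : S' ⟶ B} {s'' : S'' ⟶ B} {q : S' ⟶ S} {q' : S'' ⟶ S'}

@[reassoc (attr := simp)]
lemma pm_fst (hq : q ≫ s = s') : pm f s s' q hq ≫ pullback.fst _ _ = pullback.fst _ _ :=
  pullback.lift_fst _ _ _

@[reassoc (attr := simp)]
lemma pm_snd (hq : q ≫ s = s') : pm f s s' q hq ≫ pullback.snd _ _ = pullback.snd _ _ ≫ q :=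
  pullback.lift_snd _ _ _

lemma isPullback_pm (hq : q ≫ s = s') :
    IsPullback (pm f s s' q hq) (pullback.snd f s') (pullback.snd f s) q := by
  refine IsPullback.of_right (h₁₂ := pullback.fst f s) (h₂₂ := s) (v₁₃ := f) ?_ (pm_snd hq)
    (IsPullback.of_hasPullback f s)
  rw [pm_fst, hq]
  exact IsPullback.of_hasPullback f s'

@[reassoc (attr := simp)]
lemma pm_pm (hq : q ≫ s = s') (hq' : q' ≫ s' = s'') (hqq' : (q' ≫ q) ≫ s = s'') :
    pm f s' s'' q' hq' ≫ pm f s s' q hq = pm f s s'' (q' ≫ q) hqq' := by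
  apply pullback.hom_ext <;> simp

lemma pm_congr {q₁ : S' ⟶ S} (h : q = q₁) (hq : q ≫ s = s') (hq₁ : q₁ ≫ s = s') :
    pm f s s' q hq = pm f s s' q₁ hq₁ := by
  subst h
  rfl

end

end Groth.Agent.Pi1.H382.PullMap
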