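import Groth.Agent.Pi1B.LimField
import Groth.Agent.Pi1A.FEtLimit
import Groth.Agent.Pi1.H382.PullMap

/-!
# Descent of finite étale covers of a geometric generic fibre to a finite extension

`A` a ring with a map to a field `K`, `Ω / K` an algebraic extension, `f : X ⟶ Spec A` quasi-compact and
quasi-separated. Every finite étale cover of `X ×_A Ω` comes from `X ×_A L` for some finite subextension
`L / K` of `Ω`.
-/

set_option autoImplicit false

universe u

open CategoryTheory CategoryTheory.Limits AlgebraicGeometry

namespace Groth.Agent.Pi1.H382.Desc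

open Groth.Agent.Pi1B

variable (A K Ω : Type u) [CommRing A] [Field K] [Field Ω] [Algebra A K] [Algebra A Ω]
  [Algebra K Ω] [IsScalarTower A K Ω]

/-- The map `Spec B ⟶ Spec A` for an `A`-algebra `B`. -/
noncomputable abbrev toBase (B : Type u) [CommRing B] [Algebra A B] :
    Spec (CommRingCat.of B) ⟶ Spec (CommRingCat.of A) :=
  Spec.map (CommRingCat.ofHom (algebraMap A B))

/-- The structure maps to `Spec A`. -/
noncomputable def specBase :
    LimField.specFunctor K Ω ⟶ (Functor.const _).obj (Spec (CommRingCat.of A)) where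
  app F := toBase A F.unop.1
  naturality F G h := by
    refine Eq.trans ?_ (Category.comp_id _).symm
    exact (Spec.map_comp (CommRingCat.ofHom (algebraMap A G.unop.1))
      (CommRingCat.ofHom (IntermediateField.inclusion
        (leOfHom h.unop : G.unop.1 ≤ F.unop.1)).toRingHom)).symm

lemma specCone_str (F : (LimField.FinSub K Ω)ᵒᵖ) :
    (LimField.specCone K Ω).π.app F ≫ LimPull.str _ (specBase A K Ω) F = toBase A Ω :=
  (Spec.map_comp (CommRingCat.ofHom (algebraMap A F.unop.1))
    (CommRingCat.ofHom (algebraMap F.unop.1 Ω))).symm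

variable {X : Scheme.{u}} (f : X ⟶ Spec (CommRingCat.of A))

/-- The diagram `F ↦ X ×_A F`. -/
noncomputable abbrev diag : (LimField.FinSub K Ω)ᵒᵖ ⥤ Scheme.{u} :=
  LimPull.pullDiag (LimField.specFunctor K Ω) (specBase A K Ω) f

/-- The cone over `diag` with point `X ×_A Ω`. -/
noncomputable abbrev cone : Cone (diag A K Ω f) :=
  LimPull.pullCone (specBase A K Ω) f (LimField.specCone K Ω) (toBase A Ω) (specCone_str A K Ω)
    (IsPullback.of_hasPullback f (toBase A Ω))

noncomputable def isLimitCone [Algebra.IsAlgebraic K Ω] : IsLimit (cone A K Ω f) :=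
  have : CategoryTheory.IsConnected (LimField.FinSub K Ω)ᵒᵖ := IsCofiltered.isConnected _
  LimPull.isLimitPullCone (specBase A K Ω) f (LimField.specCone K Ω) (toBase A Ω)
    (specCone_str A K Ω)
    (IsPullback.of_hasPullback f (toBase A Ω)) (LimField.isLimitSpecCone K Ω)

lemma toBase_comp (A B C : Type u) [CommRing A] [CommRing B] [CommRing C] [Algebra A B]
    [Algebra A C] [Algebra B C] [IsScalarTower A B C] : toBase B C ≫ toBase A B = toBase A C := by
  rw [toBase, toBase, toBase, ← Spec.map_comp, ← CommRingCat.ofHom_comp,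
    ← IsScalarTower.algebraMap_eq]

/-- The comparison map `X ×_A C ⟶ X ×_A B` for a tower `A → B → C`. -/
noncomputable abbrev trans {A : Type u} [CommRing A] {X : Scheme.{u}}
    (f : X ⟶ Spec (CommRingCat.of A)) (B C : Type u) [CommRing B] [CommRing C]
    [Algebra A B] [Algebra A C] [Algebra B C] [IsScalarTower A B C] :
    pullback f (toBase A C) ⟶ pullback f (toBase A B) :=
  PullMap.pm f (toBase A B) (toBase A C) (toBase B C) (toBase_comp A B C)

instance isScalarTower_intermediateField (L : IntermediateField K Ω) : IsScalarTower A L Ω :=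
  IsScalarTower.of_algebraMap_eq' rfl

/-- Every finite étale cover of `X ×_A Ω` comes from a finite level. -/
theorem exists_finite_level [Algebra.IsAlgebraic K Ω] [QuasiCompact f] [QuasiSeparated f]
    (Z : FEt.Cat (pullback f (toBase A Ω))) :
    ∃ (L : IntermediateField K Ω) (_ : FiniteDimensional K L)
      (W : FEt.Cat (pullback f (toBase A L))),
      Nonempty ((FEt.restrict (trans f L Ω)).obj W ≅ Z) := by
  have hcpt : ∀ i, CompactSpace ((diag A K Ω f).obj i) := fun i => inferInstance
  have hqs : ∀ i, QuasiSeparatedSpace ((diag A K Ω f).obj i) := fun i => inferInstance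
  have haff : ∀ (i j) (h : i ⟶ j), IsAffineHom ((diag A K Ω f).map h) :=
    fun i j h => inferInstance
  obtain ⟨i, W, ⟨e⟩⟩ := Groth.Agent.Pi1A.FEtLimit.exists_obj (isLimitCone A K Ω f) Z
  refine ⟨i.unop.1, i.unop.2, W, ⟨?_⟩⟩
  have h : trans f i.unop.1 Ω = (cone A K Ω f).π.app i := by
    apply (LimPull.isPullback (LimField.specFunctor K Ω) (specBase A K Ω) f i).hom_ext
    · exact (PullMap.pm_fst _).trans (LimPull.pullCone_fst (specBase A K Ω) f
        (LimField.specCone K Ω) (toBase A Ω) (specCone_str A K Ω)
        (IsPullback.of_hasPullback f (toBase A Ω)) i).symm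
    · exact (PullMap.pm_snd _).trans (LimPull.pullCone_snd (specBase A K Ω) f
        (LimField.specCone K Ω) (toBase A Ω) (specCone_str A K Ω)
        (IsPullback.of_hasPullback f (toBase A Ω)) i).symm
  rw [h]
  exact e

end Groth.Agent.Pi1.H382.Desc
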