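import Groth.Agent.Pi1.H382.BC
import Groth.Agent.Pi1.H383.PrincBC
import Groth.Agent.Pi1.H416.PrincDesc

/-!
# Equivariant base changes of finite étale covers with group action
-/

set_option autoImplicit false
set_option linter.dupNamespace false

universe u v

open CategoryTheory CategoryTheory.Limits AlgebraicGeometry

namespace Groth.Agent.Pi1.H382.EBc

open Groth.Agent.Pi1A.FEtAffine Groth.Agent.Pi1.H383.PrincBC

variable {G : Type v} [Group G] {X Y Z : Scheme.{u}}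

/-- `V`, with the action `σ` of `G`, is the base change along `g` of `W` with the action `ρ`. -/
def EBc (g : X ⟶ Y) {W : FEt.Cat Y} (ρ : G →* Aut W) {V : FEt.Cat X} (σ : G →* Aut V) : Prop :=
  ∃ e : (FEt.restrict g).obj W ≅ V,
    ∀ c : G, (FEt.restrict g).map (ρ c).hom ≫ e.hom = e.hom ≫ (σ c).hom

theorem EBc.refl (g : X ⟶ Y) {W : FEt.Cat Y} (ρ : G →* Aut W) : EBc g ρ (bcAction g ρ) :=
  ⟨Iso.refl _, fun c => by rw [bcAction_hom]; simp⟩

theorem EBc.comp {f : X ⟶ Y} {g : Y ⟶ Z} {W : FEt.Cat Z} {V : FEt.Cat Y} {U : FEt.Cat X}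
    {ρ : G →* Aut W} {σ : G →* Aut V} {τ : G →* Aut U} (h : EBc g ρ σ) (h' : EBc f σ τ) :
    EBc (f ≫ g) ρ τ := by
  obtain ⟨e, he⟩ := h
  obtain ⟨e', he'⟩ := h'
  refine ⟨(restrictComp f g).app W ≪≫ (FEt.restrict f).mapIso e ≪≫ e', fun c => ?_⟩
  have h1 : (FEt.restrict (f ≫ g)).map (ρ c).hom ≫ (restrictComp f g).hom.app W =
      (restrictComp f g).hom.app W ≫ (FEt.restrict f).map ((FEt.restrict g).map (ρ c).hom) :=
    (restrictComp f g).hom.naturality (ρ c).hom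
  simp only [Iso.trans_hom, Iso.app_hom, Functor.mapIso_hom, Category.assoc]
  rw [reassoc_of% h1, ← he', ← Functor.map_comp_assoc, ← Functor.map_comp_assoc, he]

theorem EBc.comp' {f : X ⟶ Y} {g : Y ⟶ Z} {q : X ⟶ Z} (hq : f ≫ g = q) {W : FEt.Cat Z}
    {V : FEt.Cat Y} {U : FEt.Cat X} {ρ : G →* Aut W} {σ : G →* Aut V} {τ : G →* Aut U}
    (h : EBc g ρ σ) (h' : EBc f σ τ) : EBc q ρ τ := by
  subst hq
  exact h.comp h'

/-- Cancellation. -/
theorem EBc.of_comp {f : X ⟶ Y} {g : Y ⟶ Z} {q : X ⟶ Z} (hq : f ≫ g = q) {W : FEt.Cat Z}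
    {V : FEt.Cat Y} {U : FEt.Cat X} {ρ : G →* Aut W} {σ : G →* Aut V} {τ : G →* Aut U}
    (h : EBc g ρ σ) (h' : EBc q ρ τ) : EBc f σ τ := by
  subst hq
  obtain ⟨e, he⟩ := h
  obtain ⟨e', he'⟩ := h'
  refine ⟨(FEt.restrict f).mapIso e.symm ≪≫ ((restrictComp f g).app W).symm ≪≫ e', fun c => ?_⟩
  have h1 : (restrictComp f g).inv.app W ≫ (FEt.restrict (f ≫ g)).map (ρ c).hom =
      (FEt.restrict f).map ((FEt.restrict g).map (ρ c).hom) ≫ (restrictComp f g).inv.app W :=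
    ((restrictComp f g).inv.naturality (ρ c).hom).symm
  have h2 : e.inv ≫ (FEt.restrict g).map (ρ c).hom = (σ c).hom ≫ e.inv := by
    rw [Iso.inv_comp_eq, ← Category.assoc, ← he, Category.assoc, Iso.hom_inv_id, Category.comp_id]
  simp only [Iso.trans_hom, Iso.symm_hom, Iso.app_inv, Functor.mapIso_hom, Category.assoc]
  rw [← he', reassoc_of% h1, ← Functor.map_comp_assoc, ← Functor.map_comp_assoc, h2]

/-- Isomorphic covers. -/
theorem EBc.conj {g : X ⟶ Y} {W : FEt.Cat Y} {V V' : FEt.Cat X} {ρ : G →* Aut W} {σ : G →* Aut V}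
    (h : EBc g ρ σ) (i : V ≅ V') : EBc g ρ (conjAction i σ) := by
  obtain ⟨e, he⟩ := h
  refine ⟨e ≪≫ i, fun c => ?_⟩
  rw [conjAction_hom, Iso.trans_hom, reassoc_of% (he c)]
  simp

/-- If restriction along `g` is fully faithful, actions extend. -/
theorem exists_action (g : X ⟶ Y) [(FEt.restrict g).Full] [(FEt.restrict g).Faithful]
    (W : FEt.Cat Y) {V : FEt.Cat X} (σ : G →* Aut V) (e : (FEt.restrict g).obj W ≅ V) :
    ∃ ρ : G →* Aut W, EBc g ρ σ := by
  let φ := (Functor.FullyFaithful.ofFullyFaithful (FEt.restrict g)).autMulEquivOfFullyFaithful W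
  let ρ : G →* Aut W := φ.symm.toMonoidHom.comp (conjAction e.symm σ)
  refine ⟨ρ, e, fun c => ?_⟩
  have h1 : (FEt.restrict g).map (ρ c).hom = (conjAction e.symm σ c).hom := by
    have h2 : φ (ρ c) = conjAction e.symm σ c := φ.apply_symm_apply _
    exact congrArg Iso.hom h2
  rw [h1, conjAction_hom]
  simp

/-- Being principal descends along `g` if restriction along `g` reflects isomorphisms. -/
theorem EBc.isPrincipal [Finite G] {g : X ⟶ Y} [(FEt.restrict g).ReflectsIsomorphisms]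
    {W : FEt.Cat Y} {V : FEt.Cat X} {ρ : G →* Aut W} {σ : G →* Aut V} (h : EBc g ρ σ)
    (hV : SGA1t.IsPrincipal G V σ) : SGA1t.IsPrincipal G W ρ := by
  obtain ⟨e, he⟩ := h
  exact H416.PrincDesc.isPrincipal_of_iso g G W ρ V σ e he hV

/-- A base change of a principal cover is principal. -/
theorem EBc.isPrincipal_of {g : X ⟶ Y} {W : FEt.Cat Y} {V : FEt.Cat X} {ρ : G →* Aut W}
    {σ : G →* Aut V} (h : EBc g ρ σ) (hW : SGA1t.IsPrincipal G W ρ) :
    SGA1t.IsPrincipal G V σ := by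
  obtain ⟨e, he⟩ := h
  have h1 := isPrincipal_conj G e (bcAction g ρ) (isPrincipal_bc g G W ρ hW)
  have h2 : conjAction e (bcAction g ρ) = σ := by
    ext1 c
    apply Iso.ext
    rw [conjAction_hom, bcAction_hom, he, Iso.inv_hom_id_assoc]
  rwa [h2] at h1

end Groth.Agent.Pi1.H382.EBc
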