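import Groth.Agent.Pi1.H382.Tame0
import Groth.Agent.Pi1.H382.Abh
import Groth.Agent.Sga1.AbhKumDvr

/-!
# Tameness along the special fibre in residue characteristic zero
-/

set_option autoImplicit false
set_option linter.unusedSectionVars false

universe u

open CategoryTheory CategoryTheory.Limits AlgebraicGeometry IsLocalRing

namespace Groth.Agent.Pi1.H382.TameAt0

open Groth.Agent.Pi1.H382.StalkDvr Groth.Agent.Pi1.H382.Abh

variable {V K : Type u} [CommRing V] [IsDomain V] [IsDiscreteValuationRing V] [Field K]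
  [Algebra V K] [IsFractionRing V K] {Y G : Scheme.{u}} {p : Y ⟶ Spec (CommRingCat.of V)}
  {g : G ⟶ Y} {k : G ⟶ Spec (CommRingCat.of K)}

theorem tameAt [Smooth p] (hG : IsPullback g k p (Spec.map (CommRingCat.ofHom (algebraMap V K))))
    {ϖ : V} (hϖ : Irreducible ϖ) {ξ : Y} (hξ : p ξ = closedPoint V) (W₀ : FEt.Cat G)
    [CharZero (ResidueField (Y.presheaf.stalk ξ))] : TameAt hG hϖ hξ W₀ := by
  have hreg := isRegularLocalRing p ξ
  have hdom := isDomain p ξ
  have hpr : ∀ i, (Ideal.span {fam p ϖ ξ i}).IsPrime := fun _ => isPrime_span p hϖ hξ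
  have hne : ∀ i, fam p ϖ ξ i ≠ 0 := by
    intro i h
    exact hϖ.ne_zero (sm_injective p ξ (h.trans (map_zero _).symm))
  exact Tame0.isTameAlong (Y.presheaf.stalk ξ) (fam p ϖ ξ) hne
    (fun i => (Groth.Agent.Sga1.AbhKumDvr.isDiscreteValuationRing_localization
      (Y.presheaf.stalk ξ) _ (hne i)).1) _

end Groth.Agent.Pi1.H382.TameAt0
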