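import Groth.Agent.Pi1.H382.Assemble
import Groth.Agent.Pi1.H382.TameAt0

/-!
# Specialisation in residue characteristic zero: essential surjectivity
-/

set_option autoImplicit false
set_option linter.unusedSectionVars false

universe u

open CategoryTheory CategoryTheory.Limits AlgebraicGeometry IsLocalRing

namespace Groth.Agent.Pi1.H382.SpecEquiv

open Groth.Agent.Pi1.H382.StalkDvr Groth.Agent.Pi1.H382.Abh Groth.Agent.Pi1.H382.Desc

theorem essSurj (A : Type u) [CommRing A] [IsDomain A]
    [IsDiscreteValuationRing A] [HenselianLocalRing A] [IsSepClosed (ResidueField A)]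
    [CharZero (ResidueField A)]
    (Ω : Type u) [Field Ω] [IsAlgClosed Ω] [Algebra A Ω] (hinj : Function.Injective (algebraMap A Ω))
    [Algebra.IsAlgebraic A Ω]
    {X : Scheme.{u}} (f : X ⟶ Spec (CommRingCat.of A)) [IsProper f] [Smooth f]
    (hfib : ∀ (K : Type u) [Field K] [IsAlgClosed K]
      (s : Spec (CommRingCat.of K) ⟶ Spec (CommRingCat.of A)), ConnectedSpace ↥(pullback f s)) :
    (FEt.restrict (pullback.fst f (toBase A Ω))).EssSurj := by
  have : FaithfulSMul A Ω := (faithfulSMul_iff_algebraMap_injective A Ω).mpr hinj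
  let _ : Algebra (FractionRing A) Ω := FractionRing.liftAlgebra A Ω
  have : IsScalarTower A (FractionRing A) Ω := FractionRing.isScalarTower_liftAlgebra A Ω
  have : Algebra.IsAlgebraic (FractionRing A) Ω :=
    IsFractionRing.comap_isAlgebraic_iff.mp (inferInstance : Algebra.IsAlgebraic A Ω)
  refine ⟨fun Z => ?_⟩
  obtain ⟨L, _, W₀, ⟨e⟩⟩ := exists_finite_level A (FractionRing A) Ω f Z
  refine Functor.essImage.ofIso e (Assemble.mem_essImage f hfib L W₀ ?_)
  intro _ _ ϖ hϖ ξ hξ _
  have : CharZero (ResidueField ((pullback f (toBase A (integralClosure A L))).presheaf.stalk ξ)) :=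
    Tame0.charZero_of_residue A ((residue _).comp
      ((sm (pullback.snd f (toBase A (integralClosure A L))) ξ).comp
        (algebraMap A (integralClosure A L))))
  exact TameAt0.tameAt _ hϖ hξ W₀

end Groth.Agent.Pi1.H382.SpecEquiv
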