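import Groth.Agent.Pi1.H382.SpreadLevel
import Groth.Agent.Pi1.H382.EBc
import Groth.Agent.Pi1.H382.TameAt0
import Groth.Agent.Pi1.H383.GalDesc
import Groth.Agent.Pi1.H383.TameAlong
import Groth.Agent.Sga1.BiratFF

/-!
# Spreading out principal covers of order prime to the residue characteristic (no properness)
-/

set_option autoImplicit false
set_option linter.unusedSectionVars false

universe u v

open CategoryTheory CategoryTheory.Limits AlgebraicGeometry IsLocalRing

namespace Groth.Agent.Pi1.H382.Spread

open Groth.Agent.Pi1.H382.StalkDvr Groth.Agent.Pi1.H382.Trait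
open Groth.Agent.Pi1.H382.Abh Groth.Agent.Pi1.H382.Extend Groth.Agent.Pi1.H382.Desc
open Groth.Agent.Pi1.H382.PullMap Groth.Agent.Pi1.H382.SpreadLevel Groth.Agent.Pi1.H382.EBc
open Groth.Agent.Pi1.H383.PrincBC

section local_

variable {V K : Type u} [CommRing V] [IsDomain V] [IsDiscreteValuationRing V] [Field K]
  [Algebra V K] [IsFractionRing V K] {Y W : Scheme.{u}} {p : Y ⟶ Spec (CommRingCat.of V)}
  {g : W ⟶ Y} {k : W ⟶ Spec (CommRingCat.of K)}

/-- The local ring at the generic point of the special fibre is a discrete valuation ring. -/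
theorem isDVR_stalk [Smooth p] {ϖ : V} (hϖ : Irreducible ϖ) {ξ : Y} (hξ : p ξ = closedPoint V)
    (hgen : ∀ y : Y, p y = closedPoint V → ξ ⤳ y) :
    haveI := isDomain p ξ
    IsDiscreteValuationRing (Y.presheaf.stalk ξ) := by
  have hdom := isDomain p ξ
  have hreg := isRegularLocalRing p ξ
  have hmax := maximalIdeal_eq p hϖ hξ hgen
  have hne : sm p ξ ϖ ≠ 0 := by
    intro h
    exact hϖ.ne_zero (sm_injective p ξ (h.trans (map_zero _).symm))
  have hnf : ¬ IsField (Y.presheaf.stalk ξ) := by
    intro hf
    have h1 := (isField_iff_maximalIdeal_eq.mp hf)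
    rw [hmax, Ideal.span_singleton_eq_bot] at h1
    exact hne h1
  refine ((IsDiscreteValuationRing.TFAE (Y.presheaf.stalk ξ) hnf).out 4 0).mp ?_
  exact ⟨_, hmax⟩

/-- Principal covers of invertible order are tame along the special fibre. -/
theorem tameAt_of_isPrincipal [Smooth p]
    (hG : IsPullback g k p (Spec.map (CommRingCat.ofHom (algebraMap V K))))
    {ϖ : V} (hϖ : Irreducible ϖ) {ξ : Y} (hξ : p ξ = closedPoint V)
    (hgen : ∀ y : Y, p y = closedPoint V → ξ ⤳ y) (G : Type v) [Group G] [Finite G]
    (hcard : IsUnit ((Nat.card G : ℕ) : V)) (W₀ : FEt.Cat W) (ρ : G →* Aut W₀)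
    (hρ : SGA1t.IsPrincipal G W₀ ρ) : TameAt hG hϖ hξ W₀ := by
  obtain ⟨q, hq⟩ := CharP.exists (ResidueField (Y.presheaf.stalk ξ))
  rcases CharP.char_is_prime_or_zero (ResidueField (Y.presheaf.stalk ξ)) q with hqp | hq0
  · have hdom := isDomain p ξ
    have hdvr := isDVR_stalk hϖ hξ hgen
    have hpr : ∀ i, (Ideal.span {fam p ϖ ξ i}).IsPrime := fun _ => isPrime_span p hϖ hξ
    have hfact : Fact q.Prime := ⟨hqp⟩
    refine H383.TameAlong.isTameAlong (fam p ϖ ξ) ?_ q ?_ G
      ((FEt.restrict (jmap hG hϖ ξ)).obj W₀) (bcAction (jmap hG hϖ ξ) ρ)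
      (isPrincipal_bc (jmap hG hϖ ξ) G W₀ ρ hρ) ?_
    · intro i h
      exact hϖ.ne_zero (sm_injective p ξ (h.trans (map_zero _).symm))
    · rw [← residue_eq_zero_iff, map_natCast]
      exact CharP.cast_eq_zero _ q
    · rw [Nat.coprime_comm, hqp.coprime_iff_not_dvd]
      intro hdiv
      have h1 : ((Nat.card G : ℕ) : ResidueField (Y.presheaf.stalk ξ)) = 0 :=
        (CharP.cast_eq_zero_iff _ q _).mpr hdiv
      have h2 := (hcard.map (sm p ξ)).map (residue (Y.presheaf.stalk ξ))
      rw [map_natCast, map_natCast, h1] at h2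
      exact not_isUnit_zero h2
  · subst hq0
    have : CharZero (ResidueField (Y.presheaf.stalk ξ)) := CharP.charP_to_charZero _
    exact TameAt0.tameAt hG hϖ hξ W₀

/-- Restriction to the generic fibre of a smooth scheme over a discrete valuation ring is fully
faithful. -/
theorem restrict_generic_fullyFaithful [Smooth p]
    (hG : IsPullback g k p (Spec.map (CommRingCat.ofHom (algebraMap V K)))) :
    (FEt.restrict g).Full ∧ (FEt.restrict g).Faithful := by
  have hg := isOpenImmersion_generic hG
  have hN : IsLocallyNoetherian Y := LocallyOfFiniteType.isLocallyNoetherian p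
  have h1 := Sga1.BiratFF.restrict_fullyFaithful (fun y => isRegularLocalRing p y) g.opensRange
    (dense_generic hG)
  have h2 := h1.1
  have h3 := h1.2
  have e : FEt.restrict g ≅ FEt.restrict g.opensRange.ι ⋙ FEt.restrict g.isoOpensRange.hom :=
    Groth.Agent.Pi1A.FEtAffine.restrictCongr (g.isoOpensRange_hom_ι).symm ≪≫
      Groth.Agent.Pi1A.FEtAffine.restrictComp _ _
  exact ⟨Functor.Full.of_iso e.symm, Functor.Faithful.of_iso e.symm⟩

end local_

variable {A : Type u} [CommRing A] [IsDomain A] [IsDiscreteValuationRing A]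
  [HenselianLocalRing A] {K Ω : Type u} [Field K] [Algebra A K]
  [IsFractionRing A K] [Field Ω] [Algebra A Ω] [Algebra K Ω] [IsScalarTower A K Ω]
  [Algebra.IsAlgebraic K Ω] [IsAlgClosed Ω]
  {X : Scheme.{u}} (f : X ⟶ Spec (CommRingCat.of A)) [Smooth f] [QuasiCompact f] [QuasiSeparated f]

/-- A principal cover, of order invertible on `A`, of the geometric generic fibre of a smooth
quasi-compact quasi-separated `A`-scheme with geometrically connected special fibre comes from
`X ×_A A'` for the normalization `A'` of `A` in a finite extension of its fraction field. -/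
theorem exists_spread
    (hfib : ∀ (k : Type u) [Field k] [IsAlgClosed k]
      (s : Spec (CommRingCat.of k) ⟶ Spec (CommRingCat.of A)), s (⊥ : PrimeSpectrum k) = closedPoint A →
        ConnectedSpace ↥(pullback f s))
    (G : Type v) [Group G] [Finite G] (hcard : IsUnit ((Nat.card G : ℕ) : A))
    (Z : FEt.Cat (pullback f (toBase A Ω))) (ρ : G →* Aut Z) (hZ : SGA1t.IsPrincipal G Z ρ) :
    ∃ (L : IntermediateField K Ω) (_ : FiniteDimensional K L)
      (Z' : FEt.Cat (pullback f (toBase A (integralClosure A L)))) (ρ' : G →* Aut Z'),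
      SGA1t.IsPrincipal G Z' ρ' ∧ EBc (trans f (integralClosure A L) Ω) ρ' ρ := by
  obtain ⟨L, hL, W, ρW, hW, e⟩ := H383.GalDesc.exists_principal A K Ω f G Z ρ hZ
  have e1 : EBc (trans f L Ω) ρW ρ := e
  obtain ⟨L₂, hle, hL₂, Y', ⟨i⟩⟩ := exists_level f hfib L W (by
    intro _ _ ϖ hϖ ξ hξ hgen
    refine tameAt_of_isPrincipal _ hϖ hξ hgen G ?_ W ρW hW
    have h := hcard.map (algebraMap A (integralClosure A L))
    rwa [map_natCast] at h)
  have i1 : IsDiscreteValuationRing (integralClosure A L₂) := DvrExt.isDiscreteValuationRing A K L₂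
  have i2 : IsFractionRing (integralClosure A L₂) L₂ := DvrExt.isFractionRing A K L₂
  obtain ⟨hfull, hfaith⟩ := restrict_generic_fullyFaithful
    (isPullback_pm (f := f) (toBase_comp A (integralClosure A L₂) L₂))
  obtain ⟨ρ', h1⟩ := exists_action (trans f (integralClosure A L₂) L₂) Y'
    (bcAction (transLe f hle) ρW) i
  have h2 : SGA1t.IsPrincipal G Y' ρ' :=
    h1.isPrincipal (isPrincipal_bc (transLe f hle) G W ρW hW)
  have h3 : EBc (trans f L₂ Ω) (bcAction (transLe f hle) ρW) ρ :=
    (EBc.refl (transLe f hle) ρW).of_comp (trans_transLe f hle) e1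
  refine ⟨L₂, hL₂, Y', ρ', h2, h1.comp' ?_ h3⟩
  apply pullback.hom_ext
  · simp
  · simp only [Category.assoc, pm_snd, pm_snd_assoc]
    rw [toBase_comp]

/-- The residue field does not change in an integral extension if it is algebraically closed. -/
theorem bijective_residueField (A B : Type u) [CommRing A] [IsLocalRing A] [CommRing B]
    [IsLocalRing B] [Algebra A B] [Algebra.IsIntegral A B] [IsLocalHom (algebraMap A B)]
    [IsAlgClosed (ResidueField A)] :
    Function.Bijective (algebraMap (ResidueField A) (ResidueField B)) := by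
  have := DvrExt.isAlgebraic_residueField A B
  exact IsAlgClosed.algebraMap_bijective_of_isIntegral

/-- Variant: the residue field of `A` is algebraically closed and the special fibre is connected.
(See `DvrExt.isDiscreteValuationRing`, `DvrExt.isFractionRing`,
`IntHens.henselianLocalRing_of_isIntegral`, `bijective_residueField` for the properties of
`integralClosure A L`.) -/
theorem exists_spread_of_isAlgClosed [IsAlgClosed (ResidueField A)]
    [ConnectedSpace ↥(pullback f (Spec.map (CommRingCat.ofHom (residue A))))]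
    (G : Type v) [Group G] [Finite G] (hcard : IsUnit ((Nat.card G : ℕ) : A))
    (Z : FEt.Cat (pullback f (toBase A Ω))) (ρ : G →* Aut Z) (hZ : SGA1t.IsPrincipal G Z ρ) :
    ∃ (L : IntermediateField K Ω) (_ : FiniteDimensional K L)
      (Z' : FEt.Cat (pullback f (toBase A (integralClosure A L)))) (ρ' : G →* Aut Z'),
      SGA1t.IsPrincipal G Z' ρ' ∧ EBc (trans f (integralClosure A L) Ω) ρ' ρ :=
  exists_spread f (fun k _ _ s hs => hfib_of_isAlgClosed f k s hs) G hcard Z ρ hZ

end Groth.Agent.Pi1.H382.Spread
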