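import Groth.Agent.Pi1.H382.Desc
import Groth.Agent.Pi1.H382.DvrExt
import Groth.Agent.Pi1.H382.Extend
import Groth.Agent.Pi1.H385.GeomConnAC

/-!
# Extension of tame covers over the special fibre at a finite level (no properness)
-/

set_option autoImplicit false
set_option linter.unusedSectionVars false

universe u

open CategoryTheory CategoryTheory.Limits AlgebraicGeometry IsLocalRing

namespace Groth.Agent.Pi1.H382.SpreadLevel

open Groth.Agent.Pi1.H382.StalkDvr Groth.Agent.Pi1.H382.BC Groth.Agent.Pi1.H382.Trait
open Groth.Agent.Pi1.H382.Abh Groth.Agent.Pi1.H382.Extend Groth.Agent.Pi1.H382.Desc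
open Groth.Agent.Pi1.H382.PullMap

/-- Geometric fibres of a base change. -/
theorem connectedSpace_pullback {B S T X : Scheme.{u}} (f : X ⟶ B) (s : S ⟶ B) (t : T ⟶ S)
    [h : ConnectedSpace ↥(pullback f (t ≫ s))] : ConnectedSpace ↥(pullback (pullback.snd f s) t) := by
  have h1 := (IsPullback.of_hasPullback (pullback.snd f s) t).flip.paste_vert
    (IsPullback.of_hasPullback f s).flip
  exact (h1.flip.isoPullback.hom.homeomorph.connectedSpace_iff).mpr h

/-- The special fibre is geometrically connected if it is connected and the residue field is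
algebraically closed. -/
theorem hfib_of_isAlgClosed {A : Type u} [CommRing A] [IsLocalRing A] [IsAlgClosed (ResidueField A)]
    {X : Scheme.{u}} (f : X ⟶ Spec (CommRingCat.of A))
    [h : ConnectedSpace ↥(pullback f (Spec.map (CommRingCat.ofHom (residue A))))]
    (k : Type u) [Field k] (s : Spec (CommRingCat.of k) ⟶ Spec (CommRingCat.of A))
    (hs : s (⊥ : PrimeSpectrum k) = closedPoint A) : ConnectedSpace ↥(pullback f s) := by
  obtain ⟨φ, hφ⟩ := Spec.map_surjective s
  have hk : ∀ a ∈ maximalIdeal A, φ.hom a = 0 := by
    intro a ha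
    have h1 : (s (⊥ : PrimeSpectrum k)).asIdeal = maximalIdeal A := by rw [hs]; rfl
    rw [← hφ] at h1
    have h2 : a ∈ Ideal.comap φ.hom ⊥ := by
      have h3 : Ideal.comap φ.hom ⊥ = maximalIdeal A := h1
      rw [h3]
      exact ha
    exact h2
  let ψ : ResidueField A →+* k := Ideal.Quotient.lift (maximalIdeal A) φ.hom hk
  have hψ : ψ.comp (residue A) = φ.hom := by
    ext a
    rfl
  have hs' : Spec.map (CommRingCat.ofHom ψ) ≫ Spec.map (CommRingCat.ofHom (residue A)) = s := by
    rw [← Spec.map_comp, ← CommRingCat.ofHom_comp, hψ, ← hφ]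
    rfl
  have h1 : GeometricallyConnected (pullback.snd f (Spec.map (CommRingCat.ofHom (residue A)))) :=
    H385.GeomConnAC.geometricallyConnected (ResidueField A) _
  have h2 : ConnectedSpace ↥(pullback (pullback.snd f (Spec.map (CommRingCat.ofHom (residue A))))
      (Spec.map (CommRingCat.ofHom ψ))) :=
    GeometricallyConnected.geometrically_connectedSpace _ _ _ (.of_hasPullback _ _)
  have h3 := (IsPullback.of_hasPullback (pullback.snd f (Spec.map (CommRingCat.ofHom (residue A))))
    (Spec.map (CommRingCat.ofHom ψ))).flip.paste_vert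
    (IsPullback.of_hasPullback f (Spec.map (CommRingCat.ofHom (residue A)))).flip
  rw [hs'] at h3
  exact (h3.flip.isoPullback.hom.homeomorph.connectedSpace_iff).mp h2

/-- The generic point of the special fibre of a base change to a discrete valuation ring. -/
theorem exists_xi {A : Type u} [CommRing A] [IsLocalRing A] (V : Type u) [CommRing V] [IsDomain V]
    [IsDiscreteValuationRing V] [Algebra A V] [IsLocalHom (algebraMap A V)] {X : Scheme.{u}}
    (f : X ⟶ Spec (CommRingCat.of A)) [Smooth f]
    (hfib : ∀ (K : Type u) [Field K] [IsAlgClosed K]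
      (s : Spec (CommRingCat.of K) ⟶ Spec (CommRingCat.of A)), s (⊥ : PrimeSpectrum K) = closedPoint A →
        ConnectedSpace ↥(pullback f s)) :
    ∃ ξ : ↥(pullback f (toBase A V)), pullback.snd f (toBase A V) ξ = closedPoint V ∧
      ∀ y, pullback.snd f (toBase A V) y = closedPoint V → ξ ⤳ y := by
  let k := AlgebraicClosure (ResidueField V)
  let s : Spec (CommRingCat.of k) ⟶ Spec (CommRingCat.of V) :=
    Spec.map (CommRingCat.ofHom ((algebraMap (ResidueField V) k).comp (residue V)))
  have hs : s (⊥ : PrimeSpectrum k) = closedPoint V := by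
    apply PrimeSpectrum.ext
    change Ideal.comap ((algebraMap (ResidueField V) k).comp (residue V)) ⊥ = maximalIdeal V
    rw [← Ideal.comap_comap, Ideal.comap_bot_of_injective _ (algebraMap (ResidueField V) k).injective]
    exact ker_residue
  have := hfib k (s ≫ toBase A V) (by
    rw [Scheme.Hom.comp_apply, hs]
    exact IsLocalRing.comap_closedPoint (algebraMap A V))
  have := connectedSpace_pullback f (toBase A V) s
  exact exists_special_generic (pullback.snd f (toBase A V)) s hs

section

variable {A : Type u} [CommRing A] [IsDomain A] [IsDiscreteValuationRing A]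
  [HenselianLocalRing A] {K Ω : Type u} [Field K] [Algebra A K]
  [IsFractionRing A K] [Field Ω] [Algebra A Ω] [Algebra K Ω] [IsScalarTower A K Ω]
  {X : Scheme.{u}} (f : X ⟶ Spec (CommRingCat.of A))

/-- The map on `Spec` of an inclusion of subextensions. -/
noncomputable abbrev specIncl {L L₂ : IntermediateField K Ω} (hle : L ≤ L₂) :
    Spec (CommRingCat.of L₂) ⟶ Spec (CommRingCat.of L) :=
  Spec.map (CommRingCat.ofHom (IntermediateField.inclusion hle).toRingHom)

omit [IsDomain A] [IsDiscreteValuationRing A] [HenselianLocalRing A] [IsFractionRing A K] in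
lemma specIncl_toBase {L L₂ : IntermediateField K Ω} (hle : L ≤ L₂) :
    specIncl hle ≫ toBase A L = toBase A L₂ := by
  rw [toBase, toBase, ← Spec.map_comp]
  rfl

/-- The transition map `X_{L₂} ⟶ X_L`. -/
noncomputable abbrev transLe {L L₂ : IntermediateField K Ω} (hle : L ≤ L₂) :
    pullback f (toBase A L₂) ⟶ pullback f (toBase A L) :=
  pm f (toBase A L) (toBase A L₂) (specIncl hle) (specIncl_toBase hle)

omit [IsDomain A] [IsDiscreteValuationRing A] [HenselianLocalRing A] [IsFractionRing A K] in
lemma trans_transLe {L L₂ : IntermediateField K Ω} (hle : L ≤ L₂) :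
    trans f L₂ Ω ≫ transLe f hle = trans f L Ω := by
  apply pullback.hom_ext
  · simp
  · simp only [Category.assoc, pm_snd, pm_snd_assoc]
    rw [← Spec.map_comp]
    rfl

variable [Algebra.IsAlgebraic K Ω] [IsAlgClosed Ω] [Smooth f]

/-- A cover of `X_L` which is tame along the special fibre of `X_{A_L}` becomes, over a finite extension
`L₂`, the restriction of a cover of `X_{A_{L₂}}`. -/
theorem exists_level
    (hfib : ∀ (k : Type u) [Field k] [IsAlgClosed k]
      (s : Spec (CommRingCat.of k) ⟶ Spec (CommRingCat.of A)), s (⊥ : PrimeSpectrum k) = closedPoint A →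
        ConnectedSpace ↥(pullback f s))
    (L : IntermediateField K Ω) [FiniteDimensional K L] (W₀ : FEt.Cat (pullback f (toBase A L)))
    (htame : ∀ [IsDiscreteValuationRing (integralClosure A L)]
      [IsFractionRing (integralClosure A L) L] (ϖ : integralClosure A L) (hϖ : Irreducible ϖ)
      (ξ : ↥(pullback f (toBase A (integralClosure A L))))
      (hξ : pullback.snd f (toBase A (integralClosure A L)) ξ = closedPoint (integralClosure A L)),
      (∀ y, pullback.snd f (toBase A (integralClosure A L)) y = closedPoint _ → ξ ⤳ y) →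
      TameAt (isPullback_pm (toBase_comp A (integralClosure A L) L)) hϖ hξ W₀) :
    ∃ (L₂ : IntermediateField K Ω) (hle : L ≤ L₂) (_ : FiniteDimensional K L₂)
      (Y' : FEt.Cat (pullback f (toBase A (integralClosure A L₂)))),
      Nonempty ((FEt.restrict (trans f (integralClosure A L₂) L₂)).obj Y' ≅
        (FEt.restrict (transLe f hle)).obj W₀) := by
  have i1 : IsDiscreteValuationRing (integralClosure A L) := DvrExt.isDiscreteValuationRing A K L
  have i2 : IsFractionRing (integralClosure A L) L := DvrExt.isFractionRing A K L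
  have i3 : IsLocalHom (algebraMap A (integralClosure A L)) :=
    (algebraMap_isIntegral_iff.mpr inferInstance).isLocalHom
      (DvrExt.injective_algebraMap_integralClosure A K L)
  obtain ⟨ϖ, hϖ⟩ := IsDiscreteValuationRing.exists_irreducible (integralClosure A L)
  obtain ⟨ξ, hξ, hgen⟩ := exists_xi (integralClosure A L) f hfib
  obtain ⟨n, hn1, -, hn⟩ := exists_extension
    (isPullback_pm (toBase_comp A (integralClosure A L) L)) hϖ hξ hgen W₀ (htame ϖ hϖ ξ hξ hgen)
  -- adjoin an `n`-th root
  obtain ⟨t, ht⟩ := IsAlgClosed.exists_pow_nat_eq (k := Ω) ((ϖ : L) : Ω) hn1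
  let L₂ : IntermediateField K Ω := L ⊔ IntermediateField.adjoin K {t}
  have hle : L ≤ L₂ := le_sup_left
  have htL₂ : t ∈ L₂ :=
    (le_sup_right : IntermediateField.adjoin K {t} ≤ L₂) (IntermediateField.mem_adjoin_simple_self K t)
  have hfd1 : FiniteDimensional K (IntermediateField.adjoin K {t}) :=
    IntermediateField.adjoin.finiteDimensional (Algebra.IsIntegral.isIntegral t)
  have hfd : FiniteDimensional K L₂ := inferInstance
  let _ : Algebra L L₂ := (IntermediateField.inclusion hle).toRingHom.toAlgebra
  have : IsScalarTower A L L₂ := IsScalarTower.of_algebraMap_eq' rfl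
  have : IsScalarTower L L₂ Ω := IsScalarTower.of_algebraMap_eq' rfl
  have j1 : IsDiscreteValuationRing (integralClosure A L₂) := DvrExt.isDiscreteValuationRing A K L₂
  have j2 : IsFractionRing (integralClosure A L₂) L₂ := DvrExt.isFractionRing A K L₂
  let ψ : integralClosure A L →ₐ[A] integralClosure A L₂ :=
    (IsScalarTower.toAlgHom A L L₂).mapIntegralClosure
  let _ : Algebra (integralClosure A L) (integralClosure A L₂) := ψ.toRingHom.toAlgebra
  have hψinj : Function.Injective ψ := by
    intro x y hxy
    apply Subtype.ext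
    apply (algebraMap L L₂).injective
    exact congrArg (fun z : integralClosure A L₂ => (z : L₂)) hxy
  have k1 : IsScalarTower A (integralClosure A L) (integralClosure A L₂) :=
    IsScalarTower.of_algebraMap_eq' ψ.comp_algebraMap.symm
  have k2 : Algebra.IsIntegral (integralClosure A L) (integralClosure A L₂) :=
    Algebra.IsIntegral.tower_top (R := A)
  have k3 : IsLocalHom (algebraMap (integralClosure A L) (integralClosure A L₂)) :=
    (algebraMap_isIntegral_iff.mpr k2).isLocalHom hψinj
  have k6 : Module.IsTorsionFree (integralClosure A L) (integralClosure A L₂) := by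
    have : FaithfulSMul (integralClosure A L) (integralClosure A L₂) :=
      (faithfulSMul_iff_algebraMap_injective _ _).mpr hψinj
    infer_instance
  have k7 : Module.Flat (integralClosure A L) (integralClosure A L₂) := inferInstance
  -- the root in the integral closure
  have htint : IsIntegral A (⟨t, htL₂⟩ : L₂) := by
    refine IsIntegral.of_pow hn1 ?_
    have h1 : (⟨t, htL₂⟩ : L₂) ^ n = algebraMap (integralClosure A L₂) L₂ (ψ ϖ) := by
      apply Subtype.ext
      exact ht
    rw [h1]
    exact (ψ ϖ).2
  let t₂ : integralClosure A L₂ := ⟨⟨t, htL₂⟩, htint⟩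
  have ht₂ : t₂ ^ n = algebraMap (integralClosure A L) (integralClosure A L₂) ϖ := by
    apply Subtype.ext
    apply Subtype.ext
    exact ht
  -- the geometry
  have hflat : Flat (toBase (integralClosure A L) (integralClosure A L₂)) := by
    rw [toBase, Flat.SpecMap_iff]
    exact RingHom.flat_algebraMap_iff.mpr k7
  have hflat' : Flat (trans f (integralClosure A L) (integralClosure A L₂)) :=
    MorphismProperty.of_isPullback (P := @Flat)
      (isPullback_pm (f := f) (toBase_comp A (integralClosure A L) (integralClosure A L₂))).flip hflat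
  obtain ⟨Y', he⟩ := hn (integralClosure A L₂) L₂
    (algebraMap (integralClosure A L) (integralClosure A L₂)) hψinj t₂ ht₂
    (pullback f (toBase A (integralClosure A L₂))) (pullback f (toBase A L₂))
    (pullback.snd f _) (trans f (integralClosure A L) (integralClosure A L₂))
    (isPullback_pm _).w (trans f (integralClosure A L₂) L₂) (pullback.snd f _)
    (isPullback_pm _) (transLe f hle) (by
      apply pullback.hom_ext
      · simp
      · simp only [Category.assoc, pm_snd, pm_snd_assoc]
        rw [← Spec.map_comp, ← Spec.map_comp]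
        rfl)
  exact ⟨L₂, hle, hfd, Y', he⟩

end

end Groth.Agent.Pi1.H382.SpreadLevel
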