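import Groth.Agent.Pi1.H382.Trait
import Groth.Agent.Sga3C.FlatPt

/-!
# Local rings of smooth schemes over a discrete valuation ring
-/

set_option autoImplicit false
set_option linter.unusedSectionVars false

universe u

open CategoryTheory CategoryTheory.Limits AlgebraicGeometry IsLocalRing

namespace Groth.Agent.Pi1.H382.StalkDvr

open Groth.Agent.Fga

section general

variable {V : Type u} [CommRing V] {Y : Scheme.{u}} (p : Y ⟶ Spec (CommRingCat.of V))

/-- The structure map from the base to the local ring. -/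
noncomputable def sm (y : Y) : V →+* Y.presheaf.stalk y :=
  (Spec.preimage (Y.fromSpecStalk y ≫ p)).hom

lemma specMap_sm (y : Y) : Spec.map (CommRingCat.ofHom (sm p y)) = Y.fromSpecStalk y ≫ p :=
  Spec.map_preimage _

lemma sm_eq (y : Y) (a : V) :
    sm p y a = GenIso.ge (show y ∈ (⊤ : Y.Opens) from trivial) (DVRGeom.scal p a) := by
  let ψ : V →+* Y.presheaf.stalk y :=
    (GenIso.ge (show y ∈ (⊤ : Y.Opens) from trivial)).comp
      (p.appTop.hom.comp (Scheme.ΓSpecIso (CommRingCat.of V)).inv.hom)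
  have h : sm p y = ψ := by
    have h1 : Spec.map (CommRingCat.ofHom ψ) = Y.fromSpecStalk y ≫ p := by
      refine ext_of_isAffine ?_
      rw [Scheme.Hom.comp_appTop, Scheme.fromSpecStalk_appTop]
      rw [← cancel_mono (Scheme.ΓSpecIso _).hom, Scheme.ΓSpecIso_naturality]
      have h2 : CommRingCat.ofHom ψ = (Scheme.ΓSpecIso (CommRingCat.of V)).inv ≫ p.appTop ≫
          Y.presheaf.germ ⊤ y trivial := rfl
      rw [h2, Iso.hom_inv_id_assoc]
      simp
    rw [← specMap_sm] at h1
    exact congrArg CommRingCat.Hom.hom (Spec.map_injective h1).symm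
  rw [h]
  rfl

lemma apply_fromSpecStalk (y : Y) (z : PrimeSpectrum (Y.presheaf.stalk y)) :
    p (Y.fromSpecStalk y z) = PrimeSpectrum.comap (sm p y) z := by
  have h : (Y.fromSpecStalk y ≫ p) z = Spec.map (CommRingCat.ofHom (sm p y)) z := by
    rw [specMap_sm]
  rw [Scheme.Hom.comp_apply] at h
  exact h

lemma apply_eq (y : Y) :
    p y = PrimeSpectrum.comap (sm p y) (closedPoint (Y.presheaf.stalk y)) := by
  rw [← apply_fromSpecStalk, Scheme.fromSpecStalk_closedPoint]

end general

variable {V : Type u} [CommRing V] [IsDomain V] [IsDiscreteValuationRing V]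
  {Y : Scheme.{u}} (p : Y ⟶ Spec (CommRingCat.of V))

theorem mem_iff {ϖ : V} (hϖ : Irreducible ϖ) (P : PrimeSpectrum V) :
    ϖ ∈ P.asIdeal ↔ P = closedPoint V := by
  constructor
  · intro h
    rcases Groth.Agent.Models.DVRGeneric.eq_closedPoint_or_eq_bot V P with h1 | h1
    · exact h1
    · rw [h1] at h
      exact absurd h hϖ.ne_zero
  · rintro rfl
    exact (mem_maximalIdeal ϖ).mpr hϖ.not_isUnit

theorem sm_mem_iff {ϖ : V} (hϖ : Irreducible ϖ) (y : Y) (z : PrimeSpectrum (Y.presheaf.stalk y)) :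
    sm p y ϖ ∈ z.asIdeal ↔ p (Y.fromSpecStalk y z) = closedPoint V := by
  rw [apply_fromSpecStalk]
  exact mem_iff hϖ (PrimeSpectrum.comap (sm p y) z)

theorem sm_mem_maximalIdeal {ϖ : V} (hϖ : Irreducible ϖ) {y : Y} (hy : p y = closedPoint V) :
    sm p y ϖ ∈ maximalIdeal (Y.presheaf.stalk y) := by
  have h := (sm_mem_iff p hϖ y (closedPoint _)).mpr (by rw [Scheme.fromSpecStalk_closedPoint]; exact hy)
  exact h

theorem isPrime_span [Smooth p] {ϖ : V} (hϖ : Irreducible ϖ) {y : Y} (hy : p y = closedPoint V) :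
    (Ideal.span {sm p y ϖ}).IsPrime := by
  rw [sm_eq]
  exact DVRGeom.isPrime_span_ge p hϖ y ((DVRGeom.notMem_basicOpen_iff p hϖ y).mpr hy)

theorem sm_injective [Flat p] (y : Y) : Function.Injective (sm p y) := by
  have h : Flat (Spec.map (CommRingCat.ofHom (sm p y))) := by
    rw [specMap_sm]; infer_instance
  have h1 : (sm p y).Flat := by
    rw [Flat.SpecMap_iff] at h
    exact h
  algebraize [sm p y]
  have : Nontrivial (Y.presheaf.stalk y) := inferInstance
  exact FaithfulSMul.algebraMap_injective V (Y.presheaf.stalk y)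

theorem isRegularLocalRing [Smooth p] (y : Y) : IsRegularLocalRing (Y.presheaf.stalk y) :=
  DVRGeom.isRegularLocalRing_stalk p y

theorem isDomain [Smooth p] (y : Y) : IsDomain (Y.presheaf.stalk y) := by
  have := isRegularLocalRing p y
  exact Groth.Agent.S0558.result _

/-- At the generic point of the special fibre the maximal ideal is generated by the uniformizer. -/
theorem maximalIdeal_eq [Smooth p] {ϖ : V} (hϖ : Irreducible ϖ) {ξ : Y} (hξ : p ξ = closedPoint V)
    (hgen : ∀ y : Y, p y = closedPoint V → ξ ⤳ y) :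
    maximalIdeal (Y.presheaf.stalk ξ) = Ideal.span {sm p ξ ϖ} := by
  have hp := isPrime_span p hϖ hξ
  let z : PrimeSpectrum (Y.presheaf.stalk ξ) := ⟨_, hp⟩
  have h1 : p (Y.fromSpecStalk ξ z) = closedPoint V :=
    (sm_mem_iff p hϖ ξ z).mp (Ideal.mem_span_singleton_self _)
  have h2 : Y.fromSpecStalk ξ z ⤳ ξ := by
    have : Y.fromSpecStalk ξ z ∈ Set.range (Y.fromSpecStalk ξ) := ⟨z, rfl⟩
    rw [Scheme.range_fromSpecStalk] at this
    exact this
  have h3 : Y.fromSpecStalk ξ z = ξ := (h2.antisymm (hgen _ h1)).eq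
  have h4 : z = closedPoint (Y.presheaf.stalk ξ) := by
    apply (IsPreimmersion.isEmbedding (f := Y.fromSpecStalk ξ)).injective
    rw [h3, Scheme.fromSpecStalk_closedPoint]
  have h5 : z.asIdeal = (closedPoint (Y.presheaf.stalk ξ)).asIdeal := by rw [h4]
  exact h5.symm

theorem linearIndependent [Smooth p] {ϖ : V} (hϖ : Irreducible ϖ) {ξ : Y}
    (hξ : p ξ = closedPoint V) (hgen : ∀ y : Y, p y = closedPoint V → ξ ⤳ y) :
    LinearIndependent (ResidueField (Y.presheaf.stalk ξ)) (fun _ : Fin 1 =>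
      (maximalIdeal (Y.presheaf.stalk ξ)).toCotangent ⟨sm p ξ ϖ, sm_mem_maximalIdeal p hϖ hξ⟩) := by
  have hreg := isRegularLocalRing p ξ
  have hdom := isDomain p ξ
  rw [linearIndependent_unique_iff]
  intro h0
  have h2 := (Ideal.toCotangent_eq_zero (maximalIdeal _) ⟨sm p ξ ϖ, sm_mem_maximalIdeal p hϖ hξ⟩).mp h0
  have h3 : sm p ξ ϖ ∈ maximalIdeal (Y.presheaf.stalk ξ) ^ 2 := h2
  rw [maximalIdeal_eq p hϖ hξ hgen, Ideal.span_singleton_pow, Ideal.mem_span_singleton] at h3
  obtain ⟨c, hc⟩ := h3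
  have hne : sm p ξ ϖ ≠ 0 := by
    intro h
    exact hϖ.ne_zero (sm_injective p ξ (h.trans (map_zero _).symm))
  have h4 : 1 = sm p ξ ϖ * c := by
    apply mul_left_cancel₀ hne
    rw [mul_one]
    linear_combination hc
  exact (mem_maximalIdeal _).mp (sm_mem_maximalIdeal p hϖ hξ) (IsUnit.of_mul_eq_one _ h4.symm)

end Groth.Agent.Pi1.H382.StalkDvr
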