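import Groth.Prelude.Def_SGA1
import Groth.Agent.Etalg.DVRExt2
import Groth.Agent.Sga1.AbhConv
import Mathlib.FieldTheory.Perfect
import Mathlib.RingTheory.Localization.Integral
import Mathlib.RingTheory.Localization.FractionRing

/-!
# Everything is tame in residue characteristic zero
-/

set_option autoImplicit false

universe u

open IsLocalRing AlgebraicGeometry

namespace Groth.Agent.Pi1.H382.Tame0

/-- Anything over a local ring of residue characteristic zero has characteristic zero. -/
theorem charZero_of_residue (A : Type u) [CommRing A] [IsLocalRing A] [CharZero (ResidueField A)]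
    {S : Type*} [CommRing S] [Nontrivial S] (φ : A →+* S) : CharZero S := by
  refine charZero_of_inj_zero fun n hn => ?_
  by_contra h
  have h1 : ((n : A)) ∉ maximalIdeal A := by
    intro hmem
    have h2 : residue A (n : A) = 0 := (residue_eq_zero_iff _).mpr hmem
    rw [map_natCast] at h2
    exact h (by exact_mod_cast h2)
  have h3 : IsUnit (n : A) := by
    by_contra h4
    exact h1 ((mem_maximalIdeal _).mpr h4)
  have h5 := h3.map φ
  rw [map_natCast, hn] at h5
  exact not_isUnit_zero h5

/-- Tameness is automatic in residue characteristic zero, for algebraic extensions of the fraction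
field. -/
theorem isTamelyRamified (R : Type u) [CommRing R] [IsDomain R] [IsDiscreteValuationRing R]
    [CharZero (ResidueField R)] {L : Type u} [Field L] (g : R →+* L)
    (hg : Function.Injective g)
    (halg : ∀ x : L, ∃ q : Polynomial R, q ≠ 0 ∧ q.eval₂ g x = 0) :
    EtRam.IsTamelyRamified R g := by
  intro V h
  let _ : Algebra R V := (RingHom.codRestrict g V h.1).toAlgebra
  intro hloc
  refine ⟨?_, fun p hp hchar _ => ?_⟩
  · let K := FractionRing R
    let _ : Algebra R L := g.toAlgebra
    have hfs : FaithfulSMul R L := (faithfulSMul_iff_algebraMap_injective R L).mpr hg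
    let _ : Algebra K L := FractionRing.liftAlgebra R L
    have : IsScalarTower R K L := FractionRing.isScalarTower_liftAlgebra R L
    have : IsScalarTower R V L := IsScalarTower.of_algebraMap_eq fun _ => rfl
    have hA : Algebra.IsAlgebraic R L := ⟨fun x => by
      obtain ⟨q, hq, hx⟩ := halg x
      exact ⟨q, hq, hx⟩⟩
    have hK : Algebra.IsAlgebraic K L := IsFractionRing.comap_isAlgebraic_iff.mp hA
    have h1 : Algebra.IsAlgebraic (ResidueField R) (ResidueField V) :=
      Groth.Agent.Etalg.DVRExt2.isAlgebraic_residue R K V
    have : PerfectField (ResidueField R) := inferInstance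
    infer_instance
  · have h0 : p = 0 := CharP.eq (ResidueField R) hchar (CharP.ofCharZero _)
    exact hp.ne_zero h0

/-- Residue fields at primes over zero of a finite algebra over a localization of a domain are
algebraic. -/
theorem isAlgebraic_residueField (A S B : Type u) [CommRing A] [IsDomain A] [CommRing S]
    [IsDomain S] [CommRing B] [Algebra A S] [Algebra S B] [Algebra A B] [IsScalarTower A S B]
    [Algebra.IsAlgebraic A S] [Module.Finite S B] (q : Ideal B) [q.IsPrime]
    (hq : q.comap (algebraMap A B) = ⊥) : Algebra.IsAlgebraic A q.ResidueField := by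
  have h1 : Algebra.IsIntegral S B := inferInstance
  have h3 : Algebra.IsIntegral S (B ⧸ q) := Algebra.IsIntegral.trans B
  have h4 : Algebra.IsAlgebraic A (B ⧸ q) := Algebra.IsAlgebraic.trans_isIntegral A S (B ⧸ q)
  have hinj : Function.Injective (algebraMap A q.ResidueField) := by
    rw [injective_iff_map_eq_zero]
    intro a ha
    rw [IsScalarTower.algebraMap_apply A B q.ResidueField] at ha
    have h5 : algebraMap A B a ∈ q := by
      rw [← Ideal.ker_algebraMap_residueField q, RingHom.mem_ker]
      exact ha
    have h6 : a ∈ q.comap (algebraMap A B) := h5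
    rw [hq] at h6
    exact h6
  have : FaithfulSMul A q.ResidueField := (faithfulSMul_iff_algebraMap_injective A _).mpr hinj
  have : Module.IsTorsionFree A q.ResidueField := inferInstance
  exact (IsFractionRing.isAlgebraic_iff' A (B ⧸ q) q.ResidueField).mp h4

/-- A finite étale cover of the complement of `f_1 ⋯ f_r = 0` is tame if the residue characteristic
is zero. -/
theorem isTameAlong (A : Type u) [CommRing A] [IsLocalRing A] [IsDomain A]
    [CharZero (ResidueField A)] {r : ℕ} (f : Fin r → A) [∀ i, (Ideal.span {f i}).IsPrime]
    (hf0 : ∀ i, f i ≠ 0)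
    (hf : ∀ i, IsDiscreteValuationRing (Localization.AtPrime (Ideal.span {f i})))
    (V : FEt.Cat ((SGA1.specBasicOpen A (∏ i, f i)) : AlgebraicGeometry.Scheme.{u})) :
    SGA1.IsTameAlong f (Groth.Agent.Sga1.AbhConv.str A (∏ i, f i) V) := by
  have hF0 : ∏ i, f i ≠ 0 := Finset.prod_ne_zero_iff.mpr fun i _ => hf0 i
  generalize hF : ∏ i, f i = F at V hF0 ⊢
  obtain ⟨alg, hfin, het, h3, -⟩ := Groth.Agent.Sga1.AbhConv.exists_algebra A F V
  let B : Type u := Γ(V.left, ⊤)
  let algA : Algebra A B := (Groth.Agent.Sga1.AbhConv.str A F V).toAlgebra
  have htower : IsScalarTower A (Localization.Away F) B := IsScalarTower.of_algebraMap_eq' h3.symm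
  change SGA1.IsTameAlong f (algebraMap A B)
  intro i q hqp hq
  have hdvr := hf i
  have : IsDomain (Localization.Away F) :=
    IsLocalization.isDomain_localization (powers_le_nonZeroDivisors_of_noZeroDivisors hF0)
  have : Algebra.IsAlgebraic A (Localization.Away F) :=
    IsLocalization.isAlgebraic (Localization.Away F) (Submonoid.powers F)
  have halg : Algebra.IsAlgebraic A q.ResidueField :=
    isAlgebraic_residueField A (Localization.Away F) B q hq
  have hchar : CharZero (ResidueField (Localization.AtPrime (Ideal.span {f i}))) :=
    charZero_of_residue A (algebraMap A _)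
  have hg : ∀ a, SGA1.genericResidueMap (algebraMap A B) (Ideal.span {f i}) q hq
      (algebraMap A _ a) = algebraMap A q.ResidueField a := by
    intro a
    exact IsLocalization.lift_eq _ a
  have hRinj :
      Function.Injective (algebraMap A (Localization.AtPrime (Ideal.span {f i}))) :=
    IsLocalization.injective _ (Ideal.primeCompl_le_nonZeroDivisors (Ideal.span {f i}))
  have hinj : Function.Injective (algebraMap A q.ResidueField) := by
    rw [injective_iff_map_eq_zero]
    intro a ha
    have ha' : algebraMap B q.ResidueField (algebraMap A B a) = 0 := ha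
    have h5 : algebraMap A B a ∈ q := by
      rw [← Ideal.ker_algebraMap_residueField q, RingHom.mem_ker]
      exact ha'
    have h6 : a ∈ q.comap (algebraMap A B) := h5
    rw [hq] at h6
    exact h6
  refine isTamelyRamified _ _ ?_ ?_
  · rw [injective_iff_map_eq_zero]
    intro x hx
    obtain ⟨a, s, rfl⟩ := IsLocalization.exists_mk'_eq (Ideal.span {f i}).primeCompl x
    have h1 : SGA1.genericResidueMap (algebraMap A B) (Ideal.span {f i}) q hq
        (algebraMap A _ a) = 0 := by
      rw [← IsLocalization.mk'_spec (Localization.AtPrime (Ideal.span {f i})) a s, map_mul, hx,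
        zero_mul]
    rw [hg] at h1
    rw [IsLocalization.mk'_eq_zero_iff]
    exact ⟨1, by rw [(injective_iff_map_eq_zero _).mp hinj a h1, mul_zero]⟩
  · intro x
    obtain ⟨P, hP0, hP⟩ := halg.isAlgebraic x
    refine ⟨P.map (algebraMap A _), (Polynomial.map_ne_zero_iff hRinj).mpr hP0, ?_⟩
    rw [Polynomial.eval₂_map]
    have : (SGA1.genericResidueMap (algebraMap A B) (Ideal.span {f i}) q hq).comp
        (algebraMap A (Localization.AtPrime (Ideal.span {f i}))) = algebraMap A q.ResidueField :=
      RingHom.ext hg
    rw [Polynomial.aeval_def] at hP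
    rw [← hP]
    exact congrArg (fun g => P.eval₂ g x) this

end Groth.Agent.Pi1.H382.Tame0
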